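import Groth.Agent.S1524
import Groth.Agent.Fga.TwistCoh
import Groth.Agent.Variety.K420.LenEuler
import Groth.Agent.Sga67.CohBasic

/-!
# Euler characteristic of a free module tensored with an invertible module
-/

set_option autoImplicit false
universe u

open CategoryTheory Limits AlgebraicGeometry Opposite

namespace K999.EulerTw

open Groth.Agent

variable (k : Type u) [Field k] {X : Scheme.{u}} [X.Over (Spec (CommRingCat.of k))]

theorem euler_congr {F G : X.Modules} (e : F ≅ G) : Curv2.euler k X F = Curv2.euler k X G :=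
  VarietyA.DegRank.euler_iso k e

variable [IsProper (X ↘ Spec (CommRingCat.of k))] {L : X.Modules} (hL : PicF.IsInvertible L)
include hL

theorem euler_tensor_freeMod_add (m n : ℕ) :
    Curv2.euler k X (CohB1.tensorMod L (FlatMod.freeMod X (m + n))) =
      Curv2.euler k X (CohB1.tensorMod L (FlatMod.freeMod X m)) +
        Curv2.euler k X (CohB1.tensorMod L (FlatMod.freeMod X n)) := by
  obtain ⟨e⟩ := Dcoh.FinLocFree.nonempty_biprod_freeMod_iso X m n
  let S : ShortComplex X.Modules := ShortComplex.mk
    (biprod.inl : FlatMod.freeMod X m ⟶ FlatMod.freeMod X m ⊞ FlatMod.freeMod X n) biprod.snd (by simp)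
  have hS : S.ShortExact := (ShortComplex.Splitting.ofHasBinaryBiproduct _ _).shortExact
  have hc : ∀ F : X.Modules, Coh.IsCoh F → Coh.IsCoh ((DCoh.tensorBi.obj L).obj F) := fun F hF =>
    Sga67.CohBasic.isCoh_of_iso (Ega2.Tens.swap F L) (Fga.TwistCoh.isCoh_tensor hF hL)
  have hb : Coh.IsCoh (FlatMod.freeMod X m ⊞ FlatMod.freeMod X n) :=
    Sga67.CohBasic.isCoh_of_iso e.symm (K420.LenEuler.isCoh_freeMod (m + n))
  have h := S1524.result k X _ (Fga.TwistCoh.shortExact_tensorBi hL S hS)
    (hc _ (K420.LenEuler.isCoh_freeMod m)) (hc _ hb) (hc _ (K420.LenEuler.isCoh_freeMod n))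
  have e2 : CohB1.tensorMod L (FlatMod.freeMod X (m + n)) ≅
      CohB1.tensorMod L (FlatMod.freeMod X m ⊞ FlatMod.freeMod X n) :=
    Ega2.Tens.mapTIso (Iso.refl L) e.symm
  rw [euler_congr k e2]
  exact h

theorem euler_tensor_freeMod (n : ℕ) :
    Curv2.euler k X (CohB1.tensorMod L (FlatMod.freeMod X n)) = n * Curv2.euler k X L := by
  induction n with
  | zero =>
    have h := euler_tensor_freeMod_add k hL 0 0
    simp only [add_zero] at h
    push_cast
    linarith
  | succ n ih =>
    have e1 : CohB1.tensorMod L (FlatMod.freeMod X 1) ≅ L :=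
      Ega2.Tens.mapTIso (Iso.refl L)
        (Limits.coproductUniqueIso (fun _ : Fin 1 => Coh.structureModule X)) ≪≫ Ega2.Tens.runit L
    rw [euler_tensor_freeMod_add k hL, ih, euler_congr k e1]
    push_cast
    ring

end K999.EulerTw
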