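import Groth.Agent.AbVar.K524.Num
import Groth.Agent.Pic13.H945.IdealPull
import Groth.Agent.Dix.Cast1
import Groth.Agent.CohqB.PullTwist471
import Groth.Agent.S0007

/-!
# Restriction of `I_X ⊗ L` to (geometric) fibres
-/

set_option autoImplicit false
universe u

open CategoryTheory CategoryTheory.Limits AlgebraicGeometry

namespace K999.FibG

open Groth.Agent Groth.Agent.CohqB.PullTwist471

/-- Vanishing of the cohomology of the fibre at `s` may be tested after an extension of the
residue field. -/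
theorem fiberH_iff {X S : Scheme.{u}} (f : X ⟶ S) [QuasiCompact f] [QuasiSeparated f] (F : X.Modules)
    (hF : Coh.IsQCoh F) (s : S) (Ω : Type u) [Field Ω] [Algebra (S.residueField s) Ω] {Y : Scheme.{u}}
    (g : Y ⟶ X) (q : Y ⟶ Spec (CommRingCat.of Ω))
    (H : IsPullback g q f (Spec.map (CommRingCat.ofHom (algebraMap (S.residueField s) Ω)) ≫
      S.fromSpecResidueField s)) (n : ℕ) :
    Subsingleton (CohIII.fiberH f F s n) ↔
      Subsingleton (Coh.HH Y ((Scheme.Modules.pullback g).obj F) n) := by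
  have H0 : IsPullback (f.fiberι s) (f.fiberToSpecResidueField s) f (S.fromSpecResidueField s) :=
    IsPullback.of_hasPullback _ _
  obtain ⟨g0, h1, h2⟩ : ∃ g0 : Y ⟶ f.fiber s, g0 ≫ f.fiberι s = g ∧
      g0 ≫ f.fiberToSpecResidueField s = q ≫ Spec.map (CommRingCat.ofHom (algebraMap (S.residueField s) Ω)) :=
    ⟨H0.lift g (q ≫ Spec.map (CommRingCat.ofHom (algebraMap (S.residueField s) Ω)))
      (by rw [H.w, Category.assoc]; rfl), H0.lift_fst _ _ _, H0.lift_snd _ _ _⟩
  have H' : IsPullback (g0 ≫ f.fiberι s) q f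
      (Spec.map (CommRingCat.ofHom (algebraMap (S.residueField s) Ω)) ≫ S.fromSpecResidueField s) := by
    rw [h1]; exact H
  have H2 : IsPullback g0 q (f.fiberToSpecResidueField s)
      (Spec.map (CommRingCat.ofHom (algebraMap (S.residueField s) Ω))) := IsPullback.of_right H' h2 H0
  let i1 : (f.fiber s).Over (Spec (CommRingCat.of (S.residueField s))) := ⟨f.fiberToSpecResidueField s⟩
  let i2 : Y.Over (Spec (CommRingCat.of Ω)) := ⟨q⟩
  have c1 : QuasiCompact (f.fiberToSpecResidueField s) := MorphismProperty.of_isPullback H0 inferInstance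
  have c2 : QuasiSeparated (f.fiberToSpecResidueField s) := MorphismProperty.of_isPullback H0 inferInstance
  have hq : Coh.IsQCoh ((Scheme.Modules.pullback (f.fiberι s)).obj F) :=
    VarietyB.PullSec.isQCoh_pullback _ _ hF
  have key := @K524.Num.subsingleton_baseChange_iff (S.residueField s) _ (f.fiber s) i1 c1 c2 Ω _ _ Y i2 g0 H2
    ((Scheme.Modules.pullback (f.fiberι s)).obj F) hq n
  refine key.symm.trans ?_
  have e : (Scheme.Modules.pullback g0).obj ((Scheme.Modules.pullback (f.fiberι s)).obj F) ≅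
      (Scheme.Modules.pullback g).obj F :=
    (Scheme.Modules.pullbackComp g0 (f.fiberι s)).app F ≪≫
      (eqToIso (congrArg Scheme.Modules.pullback h1)).app F
  exact ⟨Flat2F.HHSeq.subsingleton_HH_of_iso e n, Flat2F.HHSeq.subsingleton_HH_of_iso e.symm n⟩

lemma ker_of_isPullback {P X Y Z : Scheme.{u}} {p : P ⟶ X} {q : P ⟶ Z} {f : X ⟶ Y} {i : Z ⟶ Y}
    (sq : IsPullback p q f i) [IsClosedImmersion i] : p.ker = i.ker.comap f := by
  rw [← Scheme.IdealSheafData.ker_fst_of_isClosedImmersion, ← sq.isoPullback_hom_fst,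
    Scheme.Hom.ker_comp_of_isIso]

/-- The pull back of `I_X ⊗ L` along a base change, `X` flat over the base. -/
theorem nonempty_pullG {A S X Y T X' : Scheme.{u}} {f : A ⟶ S} {i : X ⟶ A} [IsClosedImmersion i]
    [Flat (i ≫ f)] {L : A.Modules} (hL : PicF.IsInvertible L) {g : Y ⟶ A} {q : Y ⟶ T} {t : T ⟶ S}
    (H : IsPullback g q f t) {j : X' ⟶ Y} {a : X' ⟶ X} (h : IsPullback a j i g) :
    Nonempty ((Scheme.Modules.pullback g).obj (CohB1.tensorMod (ClSub.idealMod i.ker) L) ≅
      CohB1.tensorMod (ClSub.idealMod j.ker) ((Scheme.Modules.pullback g).obj L)) := by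
  have hfl : Flat (i.ker.subschemeι ≫ f) := by
    have h1 : i.toImage ≫ i.ker.subschemeι = i := i.toImage_imageι
    have h2 : i.ker.subschemeι ≫ f = inv i.toImage ≫ (i ≫ f) := by
      rw [IsIso.eq_inv_comp, ← Category.assoc, h1]
    rw [h2]
    infer_instance
  have hk : j.ker = i.ker.comap g := ker_of_isPullback h.flip
  have hth := Pic13.H945.IdealPull.isIso_theta_of_flat_quot H i.ker
  rw [hk]
  exact ⟨pullTensorIsoRight g (hasBases_of_isInvertible hL) _ ≪≫
    Ega2.Tens.mapTIso (asIso (Pic13.H945.IdealPull.theta g i.ker)) (Iso.refl _)⟩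

/-- `H²(I_X ⊗ L) = 0` for `X` affine and `H²(L) = 0`. -/
theorem subsingleton_two {Y X' : Scheme.{u}} (j : X' ⟶ Y) [IsClosedImmersion j] [IsAffine X']
    {L : Y.Modules} (hL : PicF.IsInvertible L) (n : ℕ) (h : Subsingleton (Coh.HH Y L (n + 2))) :
    Subsingleton (Coh.HH Y (CohB1.tensorMod (ClSub.idealMod j.ker) L) (n + 2)) := by
  refine Flat2F.HHSeq.subsingleton_HH_left (Dix.Cast1.restrictSeq_shortExact j hL) (n + 1) ?_ h
  refine Dix.Cast1.subsingleton_HH_push j _ (n + 1) ?_
  have hq : Coh.IsQCoh ((Scheme.Modules.pullback j).obj L) :=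
    VarietyB.PullSec.isQCoh_pullback _ _ (Ega2.QCohLocal.isQCoh_of_isInvertible hL)
  exact @Groth.Agent.S0007.result X' _ _ hq (n + 1) (Nat.succ_pos n)

end K999.FibG
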