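import Groth.Agent.AbVar.K506.AmpleNd
import Groth.Agent.Fdesc.LocGenPullback

/-!
# Sections of `t_c^* L ⊗ L^{m+1}` generating at a given rational point
-/

set_option autoImplicit false
set_option linter.unusedSectionVars false
universe u

open CategoryTheory Limits MonoidalCategory CartesianMonoidalCategory AlgebraicGeometry TopologicalSpace
open scoped MonObj

namespace K999.SecPt

open Groth.Agent Groth.Agent.Fdesc.LocGen

/-- A section generating at a point of `X` has nonzero restriction to `X`. -/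
theorem pullSec_ne_zero {X Y : Scheme.{u}} (i : X ⟶ Y) {M : Y.Modules} {U V : Y.Opens} (h : V ≤ U)
    (m : Γ(M, U)) (x : X) (hx : i x ∈ V) (hm : IsGen (res M h m)) : pullSec i m ≠ 0 := by
  intro h0
  have h1 := hm.pullSec i
  have h2 : pullSec i (res M h m) = (0 : Γ((Scheme.Modules.pullback i).obj M, i ⁻¹ᵁ V)) := by
    rw [← res_pullSec, h0, map_zero]
  rw [h2] at h1
  have h3 : (1 : Γ(X, i ⁻¹ᵁ V)) = 0 := h1.ext (by rw [smul_zero, smul_zero])
  have h4 : Nonempty ↥(i ⁻¹ᵁ V) := ⟨⟨x, hx⟩⟩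
  have h5 : Nontrivial Γ(X, i ⁻¹ᵁ V) := inferInstance
  exact one_ne_zero h3

/-- The same for a homomorphism `𝒪 ⟶ M`. -/
theorem unit_app_ne_zero {X Y : Scheme.{u}} (i : X ⟶ Y) {M : Y.Modules} (t : Coh.structureModule Y ⟶ M)
    (x : X) (hx : i x ∈ CohB1.genLocus M t) :
    ((Scheme.Modules.pullbackPushforwardAdjunction i).unit.app M).app ⊤ (sec t ⊤) ≠ 0 := by
  have h1 := isGen_sec_genLocus t
  rw [← res_sec t (le_top : CohB1.genLocus M t ≤ ⊤)] at h1
  exact pullSec_ne_zero i le_top (sec t ⊤) x hx h1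

open K506.AmpleNd K506.Transl Groth.Agent.Grpsch.PicGrp Groth.Agent.Grpsch.Cube

variable {K : Type u} [Field K] [IsAlgClosed K]
variable {A : Over (Spec (CommRingCat.of K))} [GrpObj A] [IsProper A.hom] [GeometricallyIntegral A.hom]

/-- A point `b` with `x + b` and `y - b` in a given nonempty open set. -/
theorem exists_two' (U : A.left.Opens) (hU : (U : Set A.left).Nonempty)
    (x y : 𝟙_ (Over (Spec (CommRingCat.of K))) ⟶ A) :
    ∃ b : 𝟙_ (Over (Spec (CommRingCat.of K))) ⟶ A, pt (x * b) ∈ U ∧ pt (y * b⁻¹) ∈ U := by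
  have hint : IsIntegral A.left := GeometricallyIntegral.isIntegral_of_subsingleton A.hom
  obtain ⟨u, hu⟩ := exists_pt_mem U hU
  let f : A ⟶ A := (toUnit A ≫ x) * 𝟙 A
  let g : A ⟶ A := (toUnit A ≫ y) * (𝟙 A)⁻¹
  have hf : ∀ b : 𝟙_ (Over (Spec (CommRingCat.of K))) ⟶ A, b ≫ f = x * b := by
    intro b
    have h1 : b ≫ toUnit A = 𝟙 _ := toUnit_unique _ _
    rw [MonObj.comp_mul, ← Category.assoc, h1, Category.id_comp, Category.comp_id]
  have hg : ∀ b : 𝟙_ (Over (Spec (CommRingCat.of K))) ⟶ A, b ≫ g = y * b⁻¹ := by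
    intro b
    have h1 : b ≫ toUnit A = 𝟙 _ := toUnit_unique _ _
    rw [MonObj.comp_mul, ← Category.assoc, h1, Category.id_comp, GrpObj.comp_inv, Category.comp_id]
  have h1 : ((f.left ⁻¹ᵁ U : A.left.Opens) : Set A.left).Nonempty := by
    refine ⟨pt (x⁻¹ * u), ?_⟩
    change f.left (pt (x⁻¹ * u)) ∈ U
    rw [← pt_comp, hf, mul_inv_cancel_left]
    exact hu
  have h2 : ((g.left ⁻¹ᵁ U : A.left.Opens) : Set A.left).Nonempty := by
    refine ⟨pt (u⁻¹ * y), ?_⟩
    change g.left (pt (u⁻¹ * y)) ∈ U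
    rw [← pt_comp, hg, _root_.mul_inv_rev, inv_inv, point_mul_comm y⁻¹, point_mul_comm, inv_mul_cancel_right]
    exact hu
  obtain ⟨b, hb⟩ := exists_pt_mem (X := A) (f.left ⁻¹ᵁ U ⊓ g.left ⁻¹ᵁ U)
    (nonempty_preirreducible_inter (f.left ⁻¹ᵁ U).isOpen (g.left ⁻¹ᵁ U).isOpen h1 h2)
  refine ⟨b, ?_, ?_⟩
  · have h3 : f.left (pt b) ∈ U := hb.1
    rwa [← pt_comp, hf] at h3
  · have h3 : g.left (pt b) ∈ U := hb.2
    rwa [← pt_comp, hg] at h3

theorem mem_genLocus_tr {L : A.left.Modules} (hL : PicF.IsInvertible L) (s : Coh.structureModule A.left ⟶ L)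
    (a b : 𝟙_ (Over (Spec (CommRingCat.of K))) ⟶ A) (h : pt (a * b) ∈ CohB1.genLocus L s) :
    pt a ∈ CohB1.genLocus _ (pullHom (tr b).left s) := by
  rw [Groth.Agent.Ega1.AmpFam.genLocus_pullHom _ hL]
  change (tr b).left (pt a) ∈ CohB1.genLocus L s
  rw [← pt_comp, comp_tr_pt]
  exact h

/-- Product of two sections generating at a point. -/
theorem exists_mul {L M N : A.left.Modules} (hL : PicF.IsInvertible L) (hM : PicF.IsInvertible M)
    (hN : PicF.IsInvertible N) (h : mk N hN = mk L hL * mk M hM) (s : Coh.structureModule A.left ⟶ L)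
    (t : Coh.structureModule A.left ⟶ M) (x : A.left) (hs : x ∈ CohB1.genLocus L s)
    (ht : x ∈ CohB1.genLocus M t) : ∃ r : Coh.structureModule A.left ⟶ N, x ∈ CohB1.genLocus N r := by
  have e : Nonempty (CohB1.tensorMod L M ≅ N) := by
    rw [← mk_eq_iff (isInvertible_tensorMod hL hM) hN, ← mk_mul_mk hL hM, h]
  obtain ⟨e⟩ := e
  refine ⟨tmulHom s t ≫ e.hom, ?_⟩
  rw [Groth.Agent.Ega2.SecCalc.genLocus_comp, genLocus_tmulHom hL hM]
  exact ⟨hs, ht⟩

/-- **`t_c^* L ⊗ L^{m+1}` has a section generating at a given rational point**, `L` effective. -/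
theorem exists_section_pow {L : A.left.Modules} (hL : PicF.IsInvertible L)
    (s : Coh.structureModule A.left ⟶ L) (hs : s ≠ 0) (a : 𝟙_ (Over (Spec (CommRingCat.of K))) ⟶ A)
    (m : ℕ) : ∀ (c : 𝟙_ (Over (Spec (CommRingCat.of K))) ⟶ A) (N : A.left.Modules)
      (hN : PicF.IsInvertible N) (_ : mk N hN = pl (tr c) (mk L hL) * mk L hL ^ (m + 1)),
      ∃ t : Coh.structureModule A.left ⟶ N, pt a ∈ CohB1.genLocus N t := by
  have hint : IsIntegral A.left := GeometricallyIntegral.isIntegral_of_subsingleton A.hom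
  have hne : (CohB1.genLocus L s : Set A.left).Nonempty := by
    by_contra h
    rw [Opens.not_nonempty_iff_eq_bot] at h
    exact hs (K518.Sec.eq_zero_of_genLocus_eq_bot hL s h)
  induction m with
  | zero =>
    intro c N hN h
    obtain ⟨b, hb1, hb2⟩ := exists_two' _ hne (a * c) a
    have h1 : PicF.IsInvertible ((Scheme.Modules.pullback (tr (c * b)).left).obj L) := isInvertible_pullback _ hL
    have h2 : PicF.IsInvertible ((Scheme.Modules.pullback (tr b⁻¹).left).obj L) := isInvertible_pullback _ hL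
    refine exists_mul h1 h2 hN ?_ (pullHom (tr (c * b)).left s) (pullHom (tr b⁻¹).left s) (pt a)
      (mem_genLocus_tr hL s _ _ (by rw [← mul_assoc]; exact hb1)) (mem_genLocus_tr hL s _ _ hb2)
    rw [h, ← pull_mk _ hL, ← pull_mk _ hL, zero_add, pow_one]
    have h3 := square (mk L hL) (c * b) b⁻¹
    rw [mul_inv_cancel_right] at h3
    exact h3
  | succ m ih =>
    intro c N hN h
    obtain ⟨b, hb1, -⟩ := exists_two' _ hne (a * c) a
    have h1 : PicF.IsInvertible ((Scheme.Modules.pullback (tr (c * b)).left).obj L) := isInvertible_pullback _ hL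
    obtain ⟨N', hN', hc⟩ := exists_mk (pl (tr b⁻¹) (mk L hL) * mk L hL ^ (m + 1))
    obtain ⟨t', ht'⟩ := ih b⁻¹ N' hN' hc.symm
    refine exists_mul h1 hN' hN ?_ (pullHom (tr (c * b)).left s) t' (pt a)
      (mem_genLocus_tr hL s _ _ (by rw [← mul_assoc]; exact hb1)) ht'
    rw [h, ← pull_mk _ hL, ← hc, pow_succ (mk L hL) (m + 1), mul_comm _ (mk L hL), ← mul_assoc]
    have h3 := square (mk L hL) (c * b) b⁻¹
    rw [mul_inv_cancel_right] at h3
    rw [h3, mul_assoc]

/-- **`L^m` has a section generating at a given rational point**, `m ≥ 2`, `L` effective. -/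
theorem exists_section_pow' {L : A.left.Modules} (hL : PicF.IsInvertible L)
    (s : Coh.structureModule A.left ⟶ L) (hs : s ≠ 0) (a : 𝟙_ (Over (Spec (CommRingCat.of K))) ⟶ A)
    (m : ℕ) (hm : 2 ≤ m) (N : A.left.Modules) (hN : PicF.IsInvertible N) (h : mk N hN = mk L hL ^ m) :
    ∃ t : Coh.structureModule A.left ⟶ N, pt a ∈ CohB1.genLocus N t := by
  obtain ⟨m, rfl⟩ : ∃ m', m = m' + 2 := ⟨m - 2, by omega⟩
  refine exists_section_pow hL s hs a m 1 N hN ?_
  have hid : pl (𝟙 A) (mk L hL) = mk L hL :=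
    (congrArg (fun f => pull f (mk L hL)) (Over.id_left A)).trans (pull_id _)
  rw [tr_one, hid, h, pow_succ' (mk L hL) (m + 1)]

/-- **`L^m` is globally generated**, `m ≥ 2`, `L` effective. -/
theorem isGloballyGenerated_pow {L : A.left.Modules} (hL : PicF.IsInvertible L)
    (s : Coh.structureModule A.left ⟶ L) (hs : s ≠ 0) (m : ℕ) (hm : 2 ≤ m) (N : A.left.Modules)
    (hN : PicF.IsInvertible N) (h : mk N hN = mk L hL ^ m) : Curv2.IsGloballyGenerated N := by
  have hcomp : CompactSpace A.left := QuasiCompact.compactSpace_of_compactSpace A.hom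
  refine Groth.Agent.VarietyB.GlobGen.isGloballyGenerated_of_cover
    (κ := Coh.structureModule A.left ⟶ N) (fun t => t) ?_
  have h := eq_top_of_forall_pt (X := A)
    (⨆ t : (Coh.structureModule A.left ⟶ N), CohB1.genLocus N t) (fun a => by
      obtain ⟨t, ht⟩ := exists_section_pow' hL s hs a m hm N hN h
      exact Opens.mem_iSup.2 ⟨t, ht⟩)
  intro x
  have hx : x ∈ (⊤ : A.left.Opens) := trivial
  rw [← h] at hx
  exact Opens.mem_iSup.1 hx

end K999.SecPt
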