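import Groth.Agent.CurvesB.HZero
import Groth.Agent.PerfB.ModExact
import Groth.Agent.Dix.Cast1
import Groth.Agent.Fga.RegSec
import Groth.Agent.CurvesB.RankOne
import Groth.Agent.CurvesB.InvEmb
import Groth.Agent.CohqB.SerTw

/-!
# `H⁰(I_X ⊗ L) ⊂ H⁰(I_X ⊗ M)` for `L ⟶ M` injective
-/

set_option autoImplicit false
universe u

open CategoryTheory CategoryTheory.Limits AlgebraicGeometry

namespace K999.SubMono

open Groth.Agent Groth.Agent.Ega2 Groth.Agent.Fdesc.LocGen Groth.Agent.Fga.RegSec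

theorem subsingleton_HH {X : Scheme.{u}} {G M : X.Modules} (φ : G ⟶ M) [Mono φ]
    (h : Subsingleton (Coh.HH X M 0)) : Subsingleton (Coh.HH X G 0) := by
  have h1 : Subsingleton Γ(M, ⊤) := (CurvesB.HZero.equivAdd M).toEquiv.subsingleton_congr.1 h
  have h2 : Subsingleton Γ(G, ⊤) := (PerfB.ModExact.app_injective_of_mono φ ⊤).subsingleton
  exact (CurvesB.HZero.equivAdd G).toEquiv.subsingleton_congr.2 h2

theorem subsingleton_of_mono {X E : Scheme.{u}} (i : E ⟶ X) [IsClosedImmersion i] {L M : X.Modules}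
    (hL : PicF.IsInvertible L) (hM : PicF.IsInvertible M) (φ : L ⟶ M) [Mono φ]
    (h : Subsingleton (Coh.HH X (CohB1.tensorMod (ClSub.idealMod i.ker) M) 0)) :
    Subsingleton (Coh.HH X (CohB1.tensorMod (ClSub.idealMod i.ker) L) 0) := by
  have h1 := Dix.Cast1.restrictSeq_shortExact i hL
  have h2 := Dix.Cast1.restrictSeq_shortExact i hM
  let a : CohB1.tensorMod (ClSub.idealMod i.ker) L ⟶ L := (Dix.Cast1.restrictSeq i L).f
  let b : CohB1.tensorMod (ClSub.idealMod i.ker) M ⟶ M := (Dix.Cast1.restrictSeq i M).f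
  let uL : L ⟶ (Scheme.Modules.pushforward i).obj ((Scheme.Modules.pullback i).obj L) :=
    (Scheme.Modules.pullbackPushforwardAdjunction i).unit.app L
  let uM : M ⟶ (Scheme.Modules.pushforward i).obj ((Scheme.Modules.pullback i).obj M) :=
    (Scheme.Modules.pullbackPushforwardAdjunction i).unit.app M
  have hm1 : Mono a := h1.mono_f
  have hm2 : Mono b := h2.mono_f
  have ha : a ≫ uL = 0 := (Dix.Cast1.restrictSeq i L).zero
  have hb : b ≫ uM = 0 := (Dix.Cast1.restrictSeq i M).zero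
  have hn : φ ≫ uM = uL ≫ (Scheme.Modules.pushforward i).map ((Scheme.Modules.pullback i).map φ) :=
    (Scheme.Modules.pullbackPushforwardAdjunction i).unit.naturality φ
  have hz : (a ≫ φ) ≫ uM = 0 := by
    rw [Category.assoc, hn, ← Category.assoc, ha, zero_comp]
  have hex : (ShortComplex.mk b uM hb).Exact := h2.exact
  have hmb : Mono (ShortComplex.mk b uM hb).f := hm2
  let ψ : CohB1.tensorMod (ClSub.idealMod i.ker) L ⟶ CohB1.tensorMod (ClSub.idealMod i.ker) M :=
    hex.lift (a ≫ φ) hz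
  have hψ : ψ ≫ b = a ≫ φ := hex.lift_f _ _
  have hmm : Mono (ψ ≫ b) := by
    rw [hψ]
    exact mono_comp a φ
  have : Mono ψ := mono_of_mono ψ b
  exact subsingleton_HH ψ h

/-- Multiplication by a nonzero section. -/
theorem mono_mulS {Z : Scheme.{u}} [IsIntegral Z] {N L : Z.Modules} (hN : PicF.IsInvertible N)
    (hL : PicF.IsInvertible L) (s : Coh.structureModule Z ⟶ N) (hs : s ≠ 0) : Mono (mulS s L) := by
  have h1 : Mono s := CurvesB.RankOne.mono_of_ne_zero (CurvesB.InvEmb.locEmb_of_isInvertible hN) s hs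
  have h2 : (ShortComplex.mk s (cokernel.π s) (cokernel.condition s)).ShortExact :=
    { exact := ShortComplex.exact_of_g_is_cokernel _ (cokernelIsCokernel _)
      mono_f := h1
      epi_g := inferInstanceAs (Epi (cokernel.π s)) }
  have h3 : Mono ((CohqB.SerTw.tw L).map s) := (CohqB.SerTw.shortExact_tw hL h2).mono_f
  exact @mono_comp Z.Modules _ _ _ _ (Tens.lunit L).inv inferInstance ((CohqB.SerTw.tw L).map s) h3

/-- A nonzero section from `H⁰ ≠ 0`. -/
theorem exists_sec {X : Scheme.{u}} (N : X.Modules) (h : Nontrivial (Coh.HH X N 0)) :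
    ∃ s : Coh.structureModule X ⟶ N, s ≠ 0 := by
  obtain ⟨x, hx⟩ := exists_ne (0 : Coh.HH X N 0)
  refine ⟨homOf (CurvesB.HZero.equivAdd N x), fun h0 => hx ?_⟩
  apply (CurvesB.HZero.equivAdd N).injective
  rw [map_zero]
  have h1 : sec (homOf (CurvesB.HZero.equivAdd N x)) ⊤ = CurvesB.HZero.equivAdd N x := by
    rw [sec_homOf, res_refl]
  rw [← h1, h0]
  rfl

end K999.SubMono
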