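import Groth.Agent.AbSch.K999.FieldMain
import Groth.Agent.AbSch.K999.SecPt
import Groth.Agent.AbSch.K999.SubMono
import Groth.Agent.S14124
import Groth.Agent.S2327

/-!
# Sections of `L` vanishing on a subscheme stable under `K(L^m)` (field case)
-/

set_option autoImplicit false
set_option linter.unusedSectionVars false
universe u

open CategoryTheory CategoryTheory.Limits MonoidalCategory CartesianMonoidalCategory MonObj GrpObj AlgebraicGeometry

namespace K999.FieldIn

open Groth.Agent Groth.Agent.Grpsch.PicGrp Groth.Agent.Fga.RigGrp K732.PicZero K732.Prim K732.Dual K732.CubeSec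
open K732.Lam Groth.Agent.Fdesc.LocGen
open K528.MumZero (mumCl)
open K999.FieldMain (RR)

variable {k : Type u} [Field k] {A At : Over (Spec (CommRingCat.of k))} [GrpObj A]
  [IsCommMonObj A] [GrpObj At] [IsProper A.hom] [Smooth A.hom] [GeometricallyConnected A.hom]
  {φ : ∀ T : Over (Spec (CommRingCat.of k)), PicF.Cl (PicF.XT A.hom T) → (T ⟶ At)}

variable (hD : AbDual.IsDualAV Scheme.fppfPrecoverage A At φ)
include hD

omit hD in
theorem aux {G : Type*} [CommGroup G] (x y z x' y' z' : G) :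
    x' * x * (y' * y)⁻¹ * (z' * z)⁻¹ = x' * y'⁻¹ * z'⁻¹ * (x * y⁻¹ * z⁻¹) := by
  rw [_root_.mul_inv, _root_.mul_inv]
  ac_rfl

omit hD in
theorem isSeparated {X : Scheme.{u}} (f : X ⟶ Spec (CommRingCat.of k)) [IsSeparated f] : X.IsSeparated := by
  have h : IsSeparated (terminal.from (Spec (CommRingCat.of k))) := inferInstance
  have h2 : f ≫ terminal.from (Spec (CommRingCat.of k)) = terminal.from X := terminal.hom_ext _ _
  exact ⟨by rw [← h2]; infer_instance⟩

omit [IsCommMonObj A] in
theorem lam_pow (c : Pic A.left) (m : ℕ) : lam φ (c ^ m) = (lam φ c) ^ m := by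
  induction m with
  | zero =>
    have h : mumCl A (c ^ 0) = 1 := by
      refine ext_ev fun W a b ↦ ?_
      rw [ev_mumCl, map_one, pow_zero, map_one, map_one, map_one, inv_one, _root_.mul_one, _root_.mul_one]
    rw [pow_zero (lam φ c), lam, h, cm_one hD]
  | succ m ih =>
    have h : mumCl A (c ^ (m + 1)) = mumCl A (c ^ m) * mumCl A c := by
      refine ext_ev fun W a b ↦ ?_
      rw [map_mul, ev_mumCl, ev_mumCl, ev_mumCl, pow_succ, map_mul, map_mul, map_mul]
      exact aux _ _ _ _ _ _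
    rw [pow_succ (lam φ c), ← ih, lam, lam, lam, h, cm_mul hD (mumCl_mem_pz _) (mumCl_mem_pz _)]

/-- **Field case, general.** -/
theorem main [IsAlgClosed k] (hRR : RR A At φ) {L : A.left.Modules} (hL : CohB1.IsAmple L) (m : ℕ)
    {K X : Over (Spec (CommRingCat.of k))} (kι : K ⟶ A)
    (hK : IsPullback kι (toUnit K) ((𝟙 A ^ m) ≫ lam φ (mk L hL.1)) η[At]) (xι : X ⟶ A)
    [IsClosedImmersion xι.left] [Nonempty X.left] (t : K ⊗ X ⟶ X) (ht : t ≫ xι = (kι ⊗ₘ xι) ≫ μ[A])
    (hm : 2 ≤ m ∨ (m = 1 ∧ ∃ (σ : Coh.structureModule A.left ⟶ L) (x : X.left),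
      xι.left x ∈ CohB1.genLocus L σ)) :
    Subsingleton (Coh.HH A.left (CohB1.tensorMod (ClSub.idealMod xι.left.ker) L) 0) := by
  have gA := K732.AV.geomInt A
  have hml := isMonHom_lam hD (mk L hL.1)
  have hint : IsIntegral A.left := GeometricallyIntegral.isIntegral_of_subsingleton A.hom
  rcases hm with hm | ⟨rfl, σ, x, hx⟩
  · -- `m ≥ 2`
    have hM : CohB1.IsAmple (CohB1.tensorPow L m) := by
      have hc : CompactSpace A.left := QuasiCompact.compactSpace_of_compactSpace A.hom
      have hs : A.left.IsSeparated := isSeparated A.hom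
      exact (S2327.result A.left L hL.1 m (by omega)).1 hL
    have hN : CohB1.IsAmple (CohB1.tensorPow L (m - 1)) := by
      have hc : CompactSpace A.left := QuasiCompact.compactSpace_of_compactSpace A.hom
      have hs : A.left.IsSeparated := isSeparated A.hom
      exact (S2327.result A.left L hL.1 (m - 1) (by omega)).1 hL
    have hmk : mk (CohB1.tensorPow L m) hM.1 = mk L hL.1 ^ m := mk_tensorPow hL.1 m
    have hmkN : mk (CohB1.tensorPow L (m - 1)) hN.1 = mk L hL.1 ^ (m - 1) := mk_tensorPow hL.1 (m - 1)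
    have hlam : (𝟙 A ^ m) ≫ lam φ (mk L hL.1) = lam φ (mk (CohB1.tensorPow L m) hM.1) := by
      rw [hmk, lam_pow hD, MonObj.pow_comp, Category.id_comp]
    rw [hlam] at hK
    obtain ⟨v1, v2⟩ := S14124.result k A L hL
    obtain ⟨w1, w2⟩ := S14124.result k A _ hN
    obtain ⟨u1, u2⟩ := S14124.result k A _ hM
    obtain ⟨s, hs⟩ := K999.SubMono.exists_sec L v2
    obtain ⟨r, hr⟩ := K999.SubMono.exists_sec _ w2
    -- a rational point of `X`
    have hlf : LocallyOfFiniteType X.hom := by
      have h : LocallyOfFiniteType (xι.left ≫ A.hom) := inferInstance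
      rwa [Over.w] at h
    obtain ⟨a, -⟩ := K506.AmpleNd.exists_pt_mem (X := X) (⊤ : X.left.Opens)
      Set.univ_nonempty
    obtain ⟨τ, hτ⟩ := K999.SecPt.exists_section_pow' hL.1 s hs (a ≫ xι) m hm _ hM.1 hmk
    rw [K506.AmpleNd.pt_comp] at hτ
    have key := K999.FieldMain.main hD hRR hM u1 kι hK xι t ht (sec τ ⊤)
      (K999.SecPt.unit_app_ne_zero xι.left τ _ hτ)
    -- `L ⟶ L^m`
    have hmono := K999.SubMono.mono_mulS hN.1 hL.1 r hr
    have e : Nonempty (CohB1.tensorMod (CohB1.tensorPow L (m - 1)) L ≅ CohB1.tensorPow L m) := by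
      rw [← mk_eq_iff (isInvertible_tensorMod hN.1 hL.1) hM.1, ← mk_mul_mk hN.1 hL.1, hmk, hmkN,
        ← pow_succ]
      congr 1
      omega
    obtain ⟨e⟩ := e
    have hmono' : Mono (Groth.Agent.Fga.RegSec.mulS r L ≫ e.hom) := mono_comp _ _
    exact K999.SubMono.subsingleton_of_mono xι.left hL.1 hM.1 (Groth.Agent.Fga.RegSec.mulS r L ≫ e.hom) key
  · obtain ⟨v1, v2⟩ := S14124.result k A L hL
    rw [pow_one, Category.id_comp] at hK
    exact K999.FieldMain.main hD hRR hL v1 kι hK xι t ht (sec σ ⊤)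
      (K999.SecPt.unit_app_ne_zero xι.left σ _ hx)

end K999.FieldIn
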