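import Groth.Agent.ThetaGrp.K999.KLDesc

/-!
# Descent of the preimage of a subscheme stable under the kernel of a homomorphism

`lam : A ⟶ At` a faithfully flat homomorphism with kernel `K`, `X ⊆ A` stable under translation by
`K`. Then the preimage of `X` under the group law `A × A ⟶ A` is the preimage of a closed subscheme
of `A × At` under `A ◁ lam`.
-/

set_option autoImplicit false
universe u

open CategoryTheory CategoryTheory.Limits MonoidalCategory CartesianMonoidalCategory MonObj AlgebraicGeometry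

namespace K999.Stable

variable {S : Scheme.{u}} {A At X K : Over S} [GrpObj A] [IsCommMonObj A] [GrpObj At]

theorem exists_desc (lam : A ⟶ At) [IsMonHom lam] [Flat lam.left] [Surjective lam.left]
    [QuasiCompact lam.left] (kι : K ⟶ A) (hK : IsPullback kι (toUnit K) lam η[At]) (xι : X ⟶ A)
    [IsClosedImmersion xι.left] (t : K ⊗ X ⟶ X) (ht : t ≫ xι = (kι ⊗ₘ xι) ≫ μ[A]) :
    ∃ (C D : Over S) (c : C ⟶ A ⊗ A) (d : D ⟶ A ⊗ At) (gX : C ⟶ X) (gD : C ⟶ D),
      IsClosedImmersion d.left ∧ IsPullback gX.left c.left xι.left μ[A].left ∧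
        IsPullback gD.left c.left d.left (A ◁ lam).left := by
  have sq := IsPullback.of_hasPullback xι μ[A]
  have sql : IsPullback (pullback.fst xι μ[A]).left (pullback.snd xι μ[A]).left xι.left μ[A].left :=
    sq.map (Over.forget _)
  have hc : IsClosedImmersion (pullback.snd xι μ[A]).left :=
    MorphismProperty.of_isPullback sql inferInstance
  have wl : IsPullback (A ◁ lam).left (snd A A).left (snd A At).left lam.left :=
    (K999.FppfLoc.isPullback_whisker A lam).map (Over.forget _)
  have f1 : Flat (A ◁ lam).left := MorphismProperty.of_isPullback wl.flip inferInstance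
  have f2 : Surjective (A ◁ lam).left := MorphismProperty.of_isPullback wl.flip inferInstance
  have f3 : QuasiCompact (A ◁ lam).left := MorphismProperty.of_isPullback wl.flip inferInstance
  obtain ⟨D, iD, hD, -, g, hg⟩ := K999.KLDesc.exists_desc_closed (A ◁ lam) (pullback.snd xι μ[A]) (by
    rintro T x y hxy ⟨z, hz⟩
    have hz' : (z ≫ pullback.fst xι μ[A]) ≫ xι = x ≫ μ[A] := by
      rw [Category.assoc, pullback.condition, ← Category.assoc, hz]
    have e1 : y ≫ fst A A = x ≫ fst A A := by
      have := congrArg (· ≫ fst A At) hxy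
      simpa only [Category.assoc, whiskerLeft_fst] using this.symm
    have e2 : (y ≫ snd A A) ≫ lam = (x ≫ snd A A) ≫ lam := by
      have := congrArg (· ≫ snd A At) hxy
      simpa only [Category.assoc, whiskerLeft_snd] using this.symm
    have e3 : ((y ≫ snd A A) * (x ≫ snd A A)⁻¹) ≫ lam = toUnit T ≫ η[At] := by
      rw [MonObj.mul_comp, GrpObj.inv_comp, e2, mul_inv_cancel, Hom.one_def]
    let κ : T ⟶ K := hK.lift ((y ≫ snd A A) * (x ≫ snd A A)⁻¹) (toUnit T) e3
    have hκ : κ ≫ kι = (y ≫ snd A A) * (x ≫ snd A A)⁻¹ := hK.lift_fst _ _ _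
    have e4 : (lift κ (z ≫ pullback.fst xι μ[A]) ≫ t) ≫ xι = y ≫ μ[A] := by
      rw [Category.assoc, ht, ← Category.assoc, lift_map, hκ, hz', MonObj.mul_eq_mul (M := A),
        MonObj.comp_mul, MonObj.comp_mul, lift_fst, lift_snd, MonObj.comp_mul, e1,
        _root_.mul_comm (x ≫ fst A A) (x ≫ snd A A), ← _root_.mul_assoc, inv_mul_cancel_right,
        _root_.mul_comm]
    refine ⟨sq.lift (lift κ (z ≫ pullback.fst xι μ[A]) ≫ t) y e4, sq.lift_snd _ _ _⟩)
  exact ⟨_, D, pullback.snd xι μ[A], iD, pullback.fst xι μ[A], g, hD, sql, hg.map (Over.forget _)⟩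

end K999.Stable
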