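import Groth.Agent.AbSch.K999.PushDesc
import Groth.Agent.AbSch.K999.Stable
import Groth.Agent.AbVar.K515.PushRank
import Groth.Agent.PerfC.PullRestrict
import Groth.Agent.PerfB.FibreConc
import Groth.Agent.Pic13.H504.Push
import Groth.Agent.Fga.TwistCoh
import Groth.Agent.S0046
import Groth.Agent.S0002

/-!
# Sections vanishing on a stable subscheme: the direct image descends along `lam`
-/

set_option autoImplicit false
set_option linter.unusedSectionVars false
universe u

open CategoryTheory CategoryTheory.Limits MonoidalCategory CartesianMonoidalCategory MonObj AlgebraicGeometry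

namespace K999.FieldCore

open Groth.Agent

theorem isCoh_idealMod {X : Scheme.{u}} [IsLocallyNoetherian X] (D : X.IdealSheafData) :
    Coh.IsCoh (ClSub.idealMod D) := by
  have : Mono (ClSub.idealModι D) := inferInstance
  exact S0046.result X (Coh.structureModule X) (ClSub.idealMod D) (ClSub.idealModι D)
    (Fdesc.StructMod.isCoh_structureModule X) (CohqA.IdealMod.isQCoh_idealMod D)

theorem isPullback_mu {C : Type*} [Category C] [CartesianMonoidalCategory C] (A : C) [GrpObj A] :
    IsPullback (μ[A] : A ⊗ A ⟶ A) (snd A A) (toUnit A) (toUnit A) := by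
  refine ⟨⟨toUnit_unique _ _⟩, ⟨PullbackCone.IsLimit.mk _
    (fun c => lift (c.fst * c.snd⁻¹) c.snd) (fun c => ?_) (fun c => lift_snd _ _) (fun c m h1 h2 => ?_)⟩⟩
  · change (c.fst * c.snd⁻¹) * c.snd = c.fst
    rw [inv_mul_cancel_right]
  · apply CartesianMonoidalCategory.hom_ext
    · rw [lift_fst]
      have h3 : (m ≫ fst A A) * (m ≫ snd A A) = c.fst := by
        rw [← h1]
        change lift (m ≫ fst A A) (m ≫ snd A A) ≫ μ[A] = _
        rw [lift_comp_fst_snd]
      rw [← h3, ← h2, mul_inv_cancel_right]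
    · rw [lift_snd, ← h2]

variable {k : Type u} [Field k] {A At X K : Over (Spec (CommRingCat.of k))} [GrpObj A] [IsCommMonObj A]
  [IsProper A.hom] [GrpObj At] [IsProper At.hom]

omit [IsCommMonObj A] [IsProper A.hom] [GrpObj At] [IsProper At.hom] in
theorem nonempty_pull_push [IsProper A.hom] (G : A.left.Modules) (hG : Coh.IsCoh G) (v : ℕ)
    (hv : @Module.finrank k (Coh.HH A.left G 0) _ _ (@Coh.moduleOver k _ A.left ⟨A.hom⟩ G 0) = v) :
    Nonempty ((Scheme.Modules.pullback A.hom).obj ((Scheme.Modules.pushforward A.hom).obj G) ≅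
      FlatMod.freeMod A.left v) := by
  let _ : A.left.Over (Spec (CommRingCat.of k)) := ⟨A.hom⟩
  have : IsProper (A.left ↘ Spec (CommRingCat.of k)) := inferInstanceAs (IsProper A.hom)
  have h1 := K515.PushRank.isFinLocFreeOfRank_push A.hom G hG.1 v (S0002.result k A.left G hG 0) hv
  have hS : Subsingleton (Spec (CommRingCat.of k)) := inferInstanceAs (Subsingleton (PrimeSpectrum k))
  obtain ⟨e⟩ := PerfB.FibreConc.free_of_subsingleton (X := Spec (CommRingCat.of k))
    (⊥ : PrimeSpectrum k) h1
  exact ⟨(Scheme.Modules.pullback A.hom).mapIso e ≪≫ PerfC.PullRestrict.pullbackFreeMod A.hom v⟩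

/-- The main construction. -/
theorem exists_F (lam : A ⟶ At) [IsMonHom lam] [Flat lam.left] [Surjective lam.left]
    (kι : K ⟶ A) (hK : IsPullback kι (toUnit K) lam η[At]) (xι : X ⟶ A)
    [IsClosedImmersion xι.left] (t : K ⊗ X ⟶ X) (ht : t ≫ xι = (kι ⊗ₘ xι) ≫ μ[A])
    {M M' : A.left.Modules} (hM : PicF.IsInvertible M) (hM' : PicF.IsInvertible M')
    {R : (A ⊗ At).left.Modules} (hR : PicF.IsInvertible R)
    (e : Nonempty ((Scheme.Modules.pullback (A ◁ lam).left).obj R ≅
      CohB1.tensorMod ((Scheme.Modules.pullback μ[A].left).obj M)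
        ((Scheme.Modules.pullback (snd A A).left).obj M'))) (v : ℕ)
    (hv : @Module.finrank k (Coh.HH A.left (CohB1.tensorMod (ClSub.idealMod xι.left.ker) M) 0) _ _
      (@Coh.moduleOver k _ A.left ⟨A.hom⟩ _ 0) = v) :
    ∃ F : At.left.Modules, Coh.IsCoh F ∧ Nonempty ((Scheme.Modules.pullback lam.left).obj F ≅
      CohB1.tensorMod M' (FlatMod.freeMod A.left v)) := by
  have hn : ∀ B : Over (Spec (CommRingCat.of k)), IsProper B.hom → IsLocallyNoetherian B.left := by
    intro B hB
    have : IsNoetherianRing (CommRingCat.of k) := inferInstanceAs (IsNoetherianRing k)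
    exact LocallyOfFiniteType.isLocallyNoetherian (Y := Spec (CommRingCat.of k)) B.hom
  have n1 := hn A inferInstance
  have n2 := hn At inferInstance
  have hfl : ∀ (Y : Scheme.{u}) (g : Y ⟶ Spec (CommRingCat.of k)), Flat g := fun Y g => by
    have : Subsingleton ↥(Spec (CommRingCat.of k)) := inferInstanceAs (Subsingleton (PrimeSpectrum k))
    infer_instance
  have f0 : Flat A.hom := hfl _ _
  have hlp : IsProper lam.left := by
    have h : IsProper (lam.left ≫ At.hom) := by rw [Over.w]; infer_instance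
    exact IsProper.of_comp lam.left At.hom
  obtain ⟨C, D, c, d, gX, gD, hd, h1, h2⟩ := K999.Stable.exists_desc lam kι hK xι t ht
  have hm : IsPullback μ[A].left (snd A A).left A.hom A.hom := (isPullback_mu A).map (Over.forget _)
  have hF : IsPullback (A ◁ lam).left (snd A A).left (snd A At).left lam.left :=
    (K999.FppfLoc.isPullback_whisker A lam).map (Over.forget _)
  have hs : IsPullback (fst A At).left (snd A At).left A.hom At.hom :=
    (IsPullback.of_hasPullback A.hom At.hom)
  have p2 : IsProper (snd A At).left := MorphismProperty.of_isPullback hs inferInstance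
  have n3 : IsLocallyNoetherian (A ⊗ At).left :=
    LocallyOfFiniteType.isLocallyNoetherian (snd A At).left
  obtain ⟨e⟩ := e
  obtain ⟨e'⟩ := K999.PushDesc.nonempty_main hm hF h1 h2 hM hM' hR e
  obtain ⟨e2⟩ := nonempty_pull_push (CohB1.tensorMod (ClSub.idealMod xι.left.ker) M)
    (Fga.TwistCoh.isCoh_tensor (isCoh_idealMod _) hM) v hv
  exact ⟨_, Pic13.H504.Push.isCoh_pushforward _ _
    (Fga.TwistCoh.isCoh_tensor (isCoh_idealMod _) hR), ⟨e' ≪≫ Ega2.Tens.mapTIso (Iso.refl M') e2⟩⟩

end K999.FieldCore
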