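import Groth.Agent.S16463

/-!
# The cokernel of `F(X₂) ⟶ F(X₃)` when `F(X₁) = 0` and `R¹F(X₂) = 0`
-/

set_option autoImplicit false
universe v u v' u'

open CategoryTheory CategoryTheory.Limits

namespace K999.LesCok

variable {C : Type u} [Category.{v} C] [Abelian C] [EnoughInjectives C]
  {D : Type u'} [Category.{v'} D] [Abelian D] (F : C ⥤ D) [F.Additive] [PreservesFiniteLimits F]

include F in
theorem main {S : ShortComplex C} (hS : S.ShortExact) (h1 : IsZero (F.obj S.X₁))
    (h2 : IsZero ((F.rightDerived 1).obj S.X₂)) :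
    Mono (F.map S.g) ∧ Nonempty (cokernel (F.map S.g) ≅ (F.rightDerived 1).obj S.X₁) := by
  obtain ⟨Δ⟩ := Groth.Agent.S16463.result F
  have hm := hS.mono_f
  constructor
  · have hex := (hS.exact.map_of_mono_of_preservesKernel F hm inferInstance)
    exact hex.mono_g (h1.eq_of_src _ _)
  · have hd : Epi (Δ.δ S hS 0 1 rfl) := (Δ.exact₁ S hS 0 1 rfl).epi_f (h2.eq_of_tgt _ _)
    have he := Δ.exact₃ S hS 0 1 rfl
    have hc := he.gIsCokernel
    let e1 : cokernel ((F.rightDerived 0).map S.g) ≅ (F.rightDerived 1).obj S.X₁ :=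
      (cokernelIsCokernel _).coconePointUniqueUpToIso hc
    let e2 : cokernel (F.map S.g) ≅ cokernel ((F.rightDerived 0).map S.g) :=
      cokernel.mapIso _ _ (F.rightDerivedZeroIsoSelf.symm.app S.X₂)
        (F.rightDerivedZeroIsoSelf.symm.app S.X₃) (F.rightDerivedZeroIsoSelf.symm.hom.naturality S.g)
    exact ⟨e2 ≪≫ e1⟩

end K999.LesCok
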