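import Groth.Agent.AbSch.K999.FibG
import Groth.Agent.AbSch.K999.LesCok
import Groth.Agent.AbSch.K999.FieldCore
import Groth.Agent.AbSch.K449.FibVan2
import Groth.Agent.S7760
import Groth.Agent.KSix.K239.PushFlat
import Groth.Agent.PerfC.RelFlat
import Groth.Agent.PerfA.Restrict
import Groth.Agent.Dcoh.FinLocFree
import Groth.Agent.Dcoh.DerSch
import Groth.Agent.Ega3B.NearFibre
import Groth.Agent.CohqA.FinSec

/-!
# Restriction of sections to a finite flat subscheme: from the fibres to the base
-/

set_option autoImplicit false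
set_option linter.unusedSectionVars false
universe u

open CategoryTheory CategoryTheory.Limits AlgebraicGeometry

namespace K999.Global

open Groth.Agent

theorem isFP_of_isCoh {X : Scheme.{u}} [IsLocallyNoetherian X] {M : X.Modules} (h : Coh.IsCoh M) :
    CohB1.IsFP M := by
  refine Groth.Agent.CohqA.FinSec.isFP_of_finitePresentation h.1 fun x => ?_
  obtain ⟨U, hU, hx, -⟩ := exists_isAffineOpen_mem_and_subset (U := (⊤ : X.Opens)) (x := x) trivial
  refine ⟨U, hU, hx, ?_⟩
  have : IsNoetherianRing Γ(X, U) := IsLocallyNoetherian.component_noetherian ⟨U, hU⟩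
  have := Groth.Agent.CohqA.FinSec.finite_sections hU h.1 h.2
  exact Module.finitePresentation_of_finite _ _

variable {A S X : Scheme.{u}} [IsLocallyNoetherian S] (f : A ⟶ S) [IsProper f] [Flat f]
  [LocallyOfFinitePresentation f] (i : X ⟶ A) [IsClosedImmersion i] [IsFinite (i ≫ f)] [Flat (i ≫ f)]
  (L : A.Modules) (hL : PicF.IsInvertible L)

include hL

omit [IsLocallyNoetherian S] [IsProper f] [LocallyOfFinitePresentation f] [IsFinite (i ≫ f)] in
theorem isFlatOver : FlatMod.IsFlatOver f (CohB1.tensorMod (ClSub.idealMod i.ker) L) := by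
  intro x
  have hS := Dix.Cast1.restrictSeq_shortExact i hL
  refine PerfC.RelFlat.isFlatOverAt_of_shortExact_left f (Dix.Cast1.restrictSeq i L) hS x
    (Ega3B.NearFibre.isFlatOver_of_isInvertible f hL x) ?_
  exact (K239.PushFlat.isFlatOver_push_iff i f ((Scheme.Modules.pullback i).obj L)).2
    (Ega3B.NearFibre.isFlatOver_of_isInvertible (i ≫ f)
      (Fdesc.LocGen.isInvertible_pullback i hL)) x

omit [IsLocallyNoetherian S] [IsProper f] [LocallyOfFinitePresentation f] in
theorem subsingleton_two (s : S) (h : Subsingleton (CohIII.fiberH f L s 2)) :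
    Subsingleton (CohIII.fiberH f (CohB1.tensorMod (ClSub.idealMod i.ker) L) s 2) := by
  have H : IsPullback (f.fiberι s) (f.fiberToSpecResidueField s) f (S.fromSpecResidueField s) :=
    IsPullback.of_hasPullback _ _
  have hi : IsPullback (pullback.fst i (f.fiberι s)) (pullback.snd i (f.fiberι s)) i (f.fiberι s) :=
    IsPullback.of_hasPullback _ _
  obtain ⟨e⟩ := K999.FibG.nonempty_pullG (f := f) (i := i) hL H hi
  have hc : IsClosedImmersion (pullback.snd i (f.fiberι s)) :=
    MorphismProperty.of_isPullback hi inferInstance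
  have H2 := hi.paste_vert H
  have hfin : IsFinite (pullback.snd i (f.fiberι s) ≫ f.fiberToSpecResidueField s) :=
    MorphismProperty.of_isPullback H2 inferInstance
  have ha : IsAffine (pullback i (f.fiberι s)) :=
    isAffine_of_isAffineHom (pullback.snd i (f.fiberι s) ≫ f.fiberToSpecResidueField s)
  refine Flat2F.HHSeq.subsingleton_HH_of_iso e.symm 2 ?_
  exact K999.FibG.subsingleton_two (pullback.snd i (f.fiberι s))
    (Fdesc.LocGen.isInvertible_pullback (f.fiberι s) hL) 0 h

/-- **The restriction map is a locally split injection.** -/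
theorem main (hvan : ∀ (s : S) (p : ℕ), 1 ≤ p → Subsingleton (CohIII.fiberH f L s p))
    (hinj : ∀ s : S, Subsingleton
      (CohIII.fiberH f (CohB1.tensorMod (ClSub.idealMod i.ker) L) s 0)) :
    Mono ((Coh.push f).map ((Scheme.Modules.pullbackPushforwardAdjunction i).unit.app L)) ∧
      FlatMod.IsFinLocFree (cokernel ((Coh.push f).map
        ((Scheme.Modules.pullbackPushforwardAdjunction i).unit.app L))) := by
  have hI := Dcoh.DerSch.hasInjectiveResolutions A
  have hE := Dcoh.DerSch.enoughInjectives A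
  have hA : IsLocallyNoetherian A := LocallyOfFiniteType.isLocallyNoetherian f
  have hS := Dix.Cast1.restrictSeq_shortExact i hL
  have hG : Coh.IsCoh (CohB1.tensorMod (ClSub.idealMod i.ker) L) :=
    Fga.TwistCoh.isCoh_tensor (K999.FieldCore.isCoh_idealMod _) hL
  have key : ∀ s : S, _ := fun s => S7760.result f (CohB1.tensorMod (ClSub.idealMod i.ker) L)
    (isFP_of_isCoh hG) (isFlatOver f i L hL) 1 le_rfl s
    (subsingleton_two f i L hL s (hvan s 2 (by norm_num))) (hinj s)
  have h0 : IsZero ((Coh.Rpush f 0).obj (CohB1.tensorMod (ClSub.idealMod i.ker) L)) := by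
    refine PerfA.Restrict.isZero_of_restrict_opens _ fun s => ?_
    obtain ⟨U, hs, -, h, -⟩ := key s
    exact ⟨U, hs, h⟩
  have h1 : FlatMod.IsFinLocFree ((Coh.Rpush f 1).obj (CohB1.tensorMod (ClSub.idealMod i.ker) L)) := by
    refine Dcoh.FinLocFree.isFinLocFree_of_local fun s => ?_
    obtain ⟨U, hs, -, -, h⟩ := key s
    exact ⟨U, U.ι, inferInstance, by simpa using hs, h⟩
  have h2 : IsZero ((Coh.Rpush f 1).obj L) :=
    (K449.FibVan2.main f L hL hvan).1 1 le_rfl
  have hz : IsZero ((Coh.push f).obj (CohB1.tensorMod (ClSub.idealMod i.ker) L)) :=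
    h0.of_iso ((Coh.push f).rightDerivedZeroIsoSelf.app _).symm
  obtain ⟨r1, ⟨r2⟩⟩ := K999.LesCok.main (Coh.push f) hS hz h2
  exact ⟨r1, Dcoh.FinLocFree.isFinLocFree_of_iso r2.symm h1⟩

end K999.Global
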