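import Groth.Agent.AbSch.K999.KerBC
import Groth.Agent.AbSch.K999.FibG
import Groth.Agent.AbSch.K999.FieldIn
import Groth.Agent.AbSch.K999.Global
import Groth.Agent.AgPol.K814.MumHom
import Groth.Agent.AbDual.K732.RR
import Groth.Agent.Variety.K425.Chart
import Groth.Agent.Lim.K342.RelGen
import Groth.Agent.Ega2.TensGen
import Groth.Agent.VarietyB.DimSch

/-!
# Geometric fibres of the restriction problem, and the theorem over a locally Noetherian base
-/

set_option autoImplicit false
universe u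

open CategoryTheory CategoryTheory.Limits MonoidalCategory CartesianMonoidalCategory MonObj GrpObj AlgebraicGeometry
  TopologicalSpace

namespace K999.FibIn

open Groth.Agent Groth.Agent.Grpsch.PicGrp Groth.Agent.Fdesc.LocGen

/-- Riemann–Roch, from `K732.RR`. -/
theorem rr {k : Type u} [Field k] [IsAlgClosed k] {A At : Over (Spec (CommRingCat.of k))} [GrpObj A]
    [GrpObj At] [IsProper A.hom] [Smooth A.hom] [GeometricallyConnected A.hom]
    {φ : ∀ T : Over (Spec (CommRingCat.of k)), PicF.Cl (PicF.XT A.hom T) → (T ⟶ At)}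
    (hD : AbDual.IsDualAV Scheme.fppfPrecoverage A At φ) : K999.FieldMain.RR A At φ := by
  intro L hL d hf hd
  have gA := K732.AV.geomInt A
  have hint : IsIntegral A.left := GeometricallyIntegral.isIntegral_of_subsingleton A.hom
  obtain ⟨g, hg⟩ : ∃ g : ℕ, topologicalKrullDim A.left = g := by
    let _ : A.left.Over (Spec (CommRingCat.of k)) := ⟨A.hom⟩
    have : LocallyOfFiniteType (A.left ↘ Spec (CommRingCat.of k)) :=
      inferInstanceAs (LocallyOfFiniteType A.hom)
    exact ⟨_, Groth.Agent.VarietyB.DimSch.topologicalKrullDim_eq_trd k⟩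
  rw [← K524.Chi.chi_mk hL]
  exact K732.RR.chi_sq hD g hg (mk L hL) hf d hd

/-- A relatively generated invertible module has, on a base change through a point, a section generating at a
given point. -/
theorem exists_gen {X S Y T : Scheme.{u}} {f : X ⟶ S} {L : X.Modules} (hL : PicF.IsInvertible L)
    (he : Epi ((Scheme.Modules.pullbackPushforwardAdjunction f).counit.app L)) {g : Y ⟶ X} {q : Y ⟶ T}
    {t : T ⟶ S} (w : g ≫ f = q ≫ t) [Subsingleton T] (y : Y) :
    ∃ σ : Coh.structureModule Y ⟶ (Scheme.Modules.pullback g).obj L, y ∈ CohB1.genLocus _ σ := by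
  have h1 : g y ∈ K342.RelGen.relLocus f L := by
    rw [K342.RelGen.relLocus_eq_top hL he]
    trivial
  obtain ⟨U, V, h, s, hy, hs⟩ := K342.RelGen.mem_relLocus.1 h1
  have hV : g ⁻¹ᵁ (f ⁻¹ᵁ V) = ⊤ := by
    ext z
    simp only [Scheme.Hom.coe_preimage, Set.mem_preimage, Opens.coe_top, Set.mem_univ, iff_true,
      SetLike.mem_coe]
    have h2 : f (g z) = f (g y) := by
      rw [← Scheme.Hom.comp_apply, ← Scheme.Hom.comp_apply, w, Scheme.Hom.comp_apply,
        Scheme.Hom.comp_apply, Subsingleton.elim (q z) (q y)]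
    rw [h2]
    exact h hy
  let σ : Γ((Scheme.Modules.pullback g).obj L, ⊤) := res _ (le_of_eq hV.symm) (pullSec g s)
  refine ⟨homOf σ, (mem_genLocus_iff _ _).2 ⟨g ⁻¹ᵁ U, hy, ?_⟩⟩
  have h3 : sec (homOf σ) (g ⁻¹ᵁ U) = pullSec g (res L h s) := by
    rw [sec_homOf, ← res_pullSec]
    change res _ _ (res _ _ (pullSec g s)) = _
    rw [res_res]
  rw [h3]
  exact hs.pullSec g

variable {S : Scheme.{u}} {A At : Over S} [GrpObj A] [IsCommMonObj A] [GrpObj At]
  [IsProper A.hom] [Smooth A.hom] [GeometricallyConnected A.hom]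
  {φ : ∀ T : Over S, PicF.Cl (PicF.XT A.hom T) → (T ⟶ At)}
  (hD : AbDual.IsDualAV Scheme.fppfPrecoverage A At φ)
include hD

/-- The fibrewise input. -/
theorem fibre {L : A.left.Modules} (hL : PicF.IsInvertible L) (hamp : RelAmple.IsRelAmple A.hom L) (m : ℕ)
    (hm : 2 ≤ m ∨ (m = 1 ∧ Epi ((Scheme.Modules.pullbackPushforwardAdjunction A.hom).counit.app L)))
    {K X : Over S} (kι : K ⟶ A)
    (hK : IsPullback kι (toUnit K) ((𝟙 A ^ m) ≫ K814.MumHom.hom φ (mk L hL)) η[At])
    (xι : X ⟶ A) [IsClosedImmersion xι.left] [Flat X.hom] [Surjective X.hom]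
    (t : K ⊗ X ⟶ X) (ht : t ≫ xι = (kι ⊗ₘ xι) ≫ μ[A]) (s : S) :
    (∀ p : ℕ, 1 ≤ p → Subsingleton (CohIII.fiberH A.hom L s p)) ∧
      Subsingleton (CohIII.fiberH A.hom (CohB1.tensorMod (ClSub.idealMod xι.left.ker) L) s 0) := by
  let Ω := AlgebraicClosure (S.residueField s)
  let k : Spec (CommRingCat.of Ω) ⟶ S :=
    Spec.map (CommRingCat.ofHom (algebraMap (S.residueField s) Ω)) ≫ S.fromSpecResidueField s
  have gA := K732.AV.geomInt A
  let A' := Red.bc k A
  let g : A'.left ⟶ A.left := pullback.fst A.hom k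
  have H : IsPullback g A'.hom A.hom k := IsPullback.of_hasPullback _ _
  have i1 : IsProper A'.hom := MorphismProperty.of_isPullback H inferInstance
  have i2 : Smooth A'.hom := MorphismProperty.of_isPullback H inferInstance
  have i3 : GeometricallyConnected A'.hom := inferInstanceAs (GeometricallyConnected (pullback.snd A.hom k))
  have i4 : IsCommMonObj A' := inferInstance
  have hq : Coh.IsQCoh L := Ega2.QCohLocal.isQCoh_of_isInvertible hL
  have hD' := K732.BC.isDualAV_bc (k := k) hD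
  have hL' : CohB1.IsAmple ((Scheme.Modules.pullback g).obj L) :=
    K425.Chart.isAmple_pullback_of_relAmple hamp k
  obtain ⟨v1, -⟩ := S14124.result Ω A' _ hL'
  refine ⟨fun p hp => (K999.FibG.fiberH_iff A.hom L hq s Ω g A'.hom H p).2 (v1 p hp), ?_⟩
  have hGq : Coh.IsQCoh (CohB1.tensorMod (ClSub.idealMod xι.left.ker) L) :=
    Groth.Agent.Ega2.TensGen.isQCoh_tensor (CohqA.IdealMod.isQCoh_idealMod _) hL
  refine (K999.FibG.fiberH_iff A.hom _ hGq s Ω g A'.hom H 0).2 ?_
  let X' := Red.bc k X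
  let xι' : X' ⟶ A' := (Over.pullback k).map xι
  have hX : IsPullback (pullback.fst X.hom k) X'.hom X.hom k := IsPullback.of_hasPullback _ _
  have hx1 : xι'.left ≫ g = pullback.fst X.hom k ≫ xι.left := pullback.lift_fst _ _ _
  have hsq : IsPullback (pullback.fst X.hom k) xι'.left xι.left g := by
    have hX2 : IsPullback (pullback.fst X.hom k) (xι'.left ≫ A'.hom) (xι.left ≫ A.hom) k := by
      rw [Over.w, Over.w]
      exact hX
    exact IsPullback.of_bot hX2 hx1.symm H
  have hfl : Flat (xι.left ≫ A.hom) := by rw [Over.w]; infer_instance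
  obtain ⟨e⟩ := K999.FibG.nonempty_pullG (f := A.hom) (i := xι.left) hL H hsq
  refine Flat2F.HHSeq.subsingleton_HH_of_iso e.symm 0 ?_
  have hci : IsClosedImmersion xι'.left := MorphismProperty.of_isPullback hsq inferInstance
  have hsurj : Surjective X'.hom := MorphismProperty.of_isPullback hX inferInstance
  obtain ⟨x', -⟩ := hsurj.surj (IsLocalRing.closedPoint Ω)
  have hne : Nonempty X'.left := ⟨x'⟩
  obtain ⟨t', ht'⟩ := K999.KerBC.exists_t k t ht
  have hK' := K999.KerBC.isPullback_bc k hK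
  rw [K999.KerBC.map_pow_comp, K814.MumHom.hom_bc hD, pull_mk _ hL] at hK'
  have hsub : Subsingleton (Spec (CommRingCat.of Ω)) := inferInstanceAs (Subsingleton (PrimeSpectrum Ω))
  refine K999.FieldIn.main hD' (rr hD') hL' m ((Over.pullback k).map kι) hK' xι' t' ht' ?_
  rcases hm with hm | ⟨hm, he⟩
  · exact Or.inl hm
  · obtain ⟨σ, hσ⟩ := exists_gen hL he H.w (xι'.left x')
    exact Or.inr ⟨hm, σ, x', hσ⟩

/-- **The theorem.** -/
theorem main [IsLocallyNoetherian S] {L : A.left.Modules} (hL : PicF.IsInvertible L)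
    (hamp : RelAmple.IsRelAmple A.hom L) (m : ℕ)
    (hm : 2 ≤ m ∨ (m = 1 ∧ Epi ((Scheme.Modules.pullbackPushforwardAdjunction A.hom).counit.app L)))
    {K X : Over S} (kι : K ⟶ A)
    (hK : IsPullback kι (toUnit K) ((𝟙 A ^ m) ≫ K814.MumHom.hom φ (mk L hL)) η[At])
    (xι : X ⟶ A) [IsClosedImmersion xι.left] [IsFinite X.hom] [Flat X.hom] [Surjective X.hom]
    (t : K ⊗ X ⟶ X) (ht : t ≫ xι = (kι ⊗ₘ xι) ≫ μ[A]) :
    Mono ((Coh.push A.hom).map ((Scheme.Modules.pullbackPushforwardAdjunction xι.left).unit.app L)) ∧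
      FlatMod.IsFinLocFree (cokernel ((Coh.push A.hom).map
        ((Scheme.Modules.pullbackPushforwardAdjunction xι.left).unit.app L))) := by
  have h1 : IsFinite (xι.left ≫ A.hom) := by rw [Over.w]; infer_instance
  have h2 : Flat (xι.left ≫ A.hom) := by rw [Over.w]; infer_instance
  exact K999.Global.main A.hom xι.left L hL
    (fun s => (fibre hD hL hamp m hm kι hK xι t ht s).1)
    (fun s => (fibre hD hL hamp m hm kι hK xι t ht s).2)

end K999.FibIn
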