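import Mathlib

/-! # The numerical step -/

set_option autoImplicit false

namespace K999.Num

theorem eq_zero {h v d : ℕ} {x e' : ℤ} (h2 : (h : ℤ) ^ 2 = d) (h3 : e' ^ 2 = d)
    (h4 : (v : ℤ) * e' = d * x) (hd : 0 < d) (hv : v < h) : v = 0 := by
  have he : e' ≠ 0 := by
    rintro rfl
    rw [zero_pow two_ne_zero] at h3
    exact hd.ne (by exact_mod_cast h3)
  have h5 : (v : ℤ) = e' * x := by
    apply mul_right_cancel₀ he
    rw [h4, ← h3]
    ring
  have h6 : e'.natAbs = h := by
    have : e'.natAbs ^ 2 = h ^ 2 := by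
      zify
      rw [sq_abs, h3, h2]
    exact (Nat.pow_left_injective two_ne_zero) this
  have h7 : h ∣ v := by
    rw [← h6, ← Int.natAbs_natCast v, h5, Int.natAbs_mul]
    exact dvd_mul_right _ _
  exact Nat.eq_zero_of_dvd_of_lt h7 hv

end K999.Num
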