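import Groth.Agent.CurvesB.HZero
import Groth.Agent.PerfB.ModExact

/-!
# Global sections of a submodule missing a section
-/

set_option autoImplicit false
universe u

open CategoryTheory Limits AlgebraicGeometry Opposite

namespace K999.SecLt

open Groth.Agent

variable (k : Type u) [Field k] {X : Scheme.{u}} [X.Over (Spec (CommRingCat.of k))]

/-- The map on `H⁰`. -/
noncomputable def map {G M : X.Modules} (φ : G ⟶ M) : Coh.HH X G 0 →ₗ[k] Coh.HH X M 0 where
  toFun x := (CurvesB.HZero.equivAdd M).symm (φ.app ⊤ (CurvesB.HZero.equivAdd G x))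
  map_add' x y := by rw [map_add, map_add, map_add]
  map_smul' a x := by
    apply (CurvesB.HZero.equivAdd M).injective
    rw [RingHom.id_apply]
    refine ((CurvesB.HZero.equivAdd M).apply_symm_apply _).trans ?_
    refine Eq.trans ?_ (CurvesB.HZero.equivAdd_smul_over M a _).symm
    rw [CurvesB.HZero.equivAdd_smul_over, AddEquiv.apply_symm_apply]
    exact φ.app_smul _ _

theorem equiv_map {G M : X.Modules} (φ : G ⟶ M) (x : Coh.HH X G 0) :
    CurvesB.HZero.equivAdd M (map k φ x) = φ.app ⊤ (CurvesB.HZero.equivAdd G x) :=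
  AddEquiv.apply_symm_apply _ _

theorem map_injective {G M : X.Modules} (φ : G ⟶ M) [Mono φ] : Function.Injective (map k φ) := by
  intro x y h
  apply (CurvesB.HZero.equivAdd G).injective
  apply PerfB.ModExact.app_injective_of_mono φ ⊤
  have h2 := congrArg (CurvesB.HZero.equivAdd M) h
  rwa [equiv_map, equiv_map] at h2

theorem finrank_lt {G M : X.Modules} (φ : G ⟶ M) [Mono φ] [Module.Finite k (Coh.HH X M 0)]
    (m : Γ(M, ⊤)) (hm : ∀ g : Γ(G, ⊤), φ.app ⊤ g ≠ m) :
    Module.finrank k (Coh.HH X G 0) < Module.finrank k (Coh.HH X M 0) := by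
  rw [← LinearMap.finrank_range_of_inj (map_injective k φ)]
  refine Submodule.finrank_lt fun h => ?_
  obtain ⟨x, hx⟩ := LinearMap.range_eq_top.1 h ((CurvesB.HZero.equivAdd M).symm m)
  refine hm (CurvesB.HZero.equivAdd G x) ?_
  rw [← equiv_map k, hx, AddEquiv.apply_symm_apply]

end K999.SecLt
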