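import Groth.Agent.AbSch.K999.FieldCore
import Groth.Agent.AbSch.K999.EulerTw
import Groth.Agent.AbSch.K999.SecLt
import Groth.Agent.AbSch.K999.Num
import Groth.Agent.AbDual.K732.KLPull
import Groth.Agent.Dix.Cast1
import Groth.Agent.S7859

/-!
# Sections of an ample module vanishing on a subscheme stable under `K(M)` (field case)
-/

set_option autoImplicit false
set_option linter.unusedSectionVars false
universe u

open CategoryTheory CategoryTheory.Limits MonoidalCategory CartesianMonoidalCategory MonObj GrpObj AlgebraicGeometry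

namespace K999.FieldMain

open Groth.Agent Groth.Agent.Grpsch.PicGrp Groth.Agent.Fga.RigGrp K732.PicZero K732.Prim K732.Dual K732.CubeSec
open K732.Lam
open K528.MumZero (mumCl)

variable {k : Type u} [Field k] {A At : Over (Spec (CommRingCat.of k))} [GrpObj A]
  [IsCommMonObj A] [GrpObj At] [IsProper A.hom] [Smooth A.hom] [GeometricallyConnected A.hom]
  {φ : ∀ T : Over (Spec (CommRingCat.of k)), PicF.Cl (PicF.XT A.hom T) → (T ⟶ At)}

/-- Riemann–Roch for `A`: `χ(L)² = deg φ_L` whenever `φ_L` is finite. -/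
def RR (A At : Over (Spec (CommRingCat.of k))) [GrpObj A]
    (φ : ∀ T : Over (Spec (CommRingCat.of k)), PicF.Cl (PicF.XT A.hom T) → (T ⟶ At)) : Prop :=
  ∀ (L : A.left.Modules) (hL : PicF.IsInvertible L) (d : ℕ), IsFinite (lam φ (mk L hL)).left →
    (∀ y, (lam φ (mk L hL)).left.finrank y = d) → @Curv2.euler k _ A.left ⟨A.hom⟩ L ^ 2 = (d : ℤ)

variable (hD : AbDual.IsDualAV Scheme.fppfPrecoverage A At φ)
include hD

omit [IsCommMonObj A] in
theorem lam_inv (c : Pic A.left) : lam φ c⁻¹ = (lam φ c)⁻¹ := by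
  have h : mumCl A c⁻¹ = (mumCl A c)⁻¹ := by
    refine ext_ev fun W a b ↦ ?_
    rw [map_inv, ev_mumCl, ev_mumCl, map_inv, map_inv, map_inv, _root_.mul_inv, _root_.mul_inv]
  rw [lam, lam, h, cm_inv hD (mumCl_mem_pz c)]

/-- The module `R` on `A × At`. -/
theorem exists_R {ξ : Pic (PicF.XT A.hom At)} (h1 : ξ ∈ pz A.hom At) (h2 : ξ ∈ rg A At)
    (h3 : cm φ ξ = 𝟙 At) {M M' : A.left.Modules} (hM : PicF.IsInvertible M)
    (hM' : PicF.IsInvertible M') (hMM : mk M' hM' = (mk M hM)⁻¹) :
    ∃ (R : (A ⊗ At).left.Modules), PicF.IsInvertible R ∧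
      Nonempty ((Scheme.Modules.pullback (A ◁ lam φ (mk M hM)).left).obj R ≅
        CohB1.tensorMod ((Scheme.Modules.pullback μ[A].left).obj M)
          ((Scheme.Modules.pullback (snd A A).left).obj M')) := by
  have gA := K732.AV.geomInt A
  have hc : pull (η[A] : 𝟙_ (Over (Spec (CommRingCat.of k))) ⟶ A).left (mk M hM) = 1 :=
    pic_spec_local k _
  let ξ' : Pic (A ⊗ At).left := ξ
  obtain ⟨R, hR, hρ⟩ := exists_mk (X := (A ⊗ At).left) (ξ' * pull (fst A At).left (mk M hM))
  refine ⟨R, hR, ?_⟩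
  have i1 := Fdesc.LocGen.isInvertible_pullback (A ◁ lam φ (mk M hM)).left hR
  have i2 := Fdesc.LocGen.isInvertible_pullback μ[A].left hM
  have i3 := Fdesc.LocGen.isInvertible_pullback (snd A A).left hM'
  have i4 := Fdesc.LocGen.isInvertible_tensorMod i2 i3
  rw [← mk_eq_iff i1 i4, ← mk_mul_mk i2 i3, ← pull_mk _ hR, ← pull_mk _ hM, ← pull_mk _ hM', ← hρ,
    map_mul, hMM, map_inv]
  have e1 : pull (A ◁ lam φ (mk M hM)).left ξ' =
      pull (fst A A * snd A A).left (mk M hM) * (pull (fst A A).left (mk M hM))⁻¹ *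
        (pull (snd A A).left (mk M hM))⁻¹ := by
    rw [← K814.MumHom.ev_hom hD h1 h2 h3 hc]
    have : A ◁ lam φ (mk M hM) = lift (fst A A) (snd A A ≫ lam φ (mk M hM)) := by
      ext <;> simp
    rw [this]
    rfl
  have e2 : pull (A ◁ lam φ (mk M hM)).left (pull (fst A At).left (mk M hM)) =
      pull (fst A A).left (mk M hM) := by
    rw [← pull_comp, ← Over.comp_left, whiskerLeft_fst]
  rw [e1, e2, MonObj.mul_eq_mul]
  have : ∀ {G : Type (u + 1)} [CommGroup G] (a b c : G), a * b⁻¹ * c⁻¹ * b = a * c⁻¹ := by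
    intro G _ a b c
    rw [mul_right_comm, inv_mul_cancel_right]
  exact this (G := Pic (A ⊗ A).left) _ _ _

/-- **Field case.** -/
theorem main [IsAlgClosed k] (hRR : RR A At φ) {M : A.left.Modules} (hM : CohB1.IsAmple M)
    (hvan : ∀ j : ℕ, 0 < j → Subsingleton (Coh.HH A.left M j))
    {K X : Over (Spec (CommRingCat.of k))} (kι : K ⟶ A)
    (hK : IsPullback kι (toUnit K) (lam φ (mk M hM.1)) η[At]) (xι : X ⟶ A)
    [IsClosedImmersion xι.left] (t : K ⊗ X ⟶ X) (ht : t ≫ xι = (kι ⊗ₘ xι) ≫ μ[A])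
    (σ : Γ(M, ⊤)) (hσ : ((Scheme.Modules.pullbackPushforwardAdjunction xι.left).unit.app M).app ⊤ σ ≠ 0) :
    Subsingleton (Coh.HH A.left (CohB1.tensorMod (ClSub.idealMod xι.left.ker) M) 0) := by
  obtain ⟨-, t1, t2, t3, t4⟩ := K732.DualField.isAV hD
  have gA := K732.AV.geomInt A
  have gT := K732.AV.geomInt At
  have hn : IsLocallyNoetherian A.left := by
    have : IsNoetherianRing (CommRingCat.of k) := inferInstanceAs (IsNoetherianRing k)
    exact LocallyOfFiniteType.isLocallyNoetherian (Y := Spec (CommRingCat.of k)) A.hom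
  have hnt : IsLocallyNoetherian At.left := by
    have : IsNoetherianRing (CommRingCat.of k) := inferInstanceAs (IsNoetherianRing k)
    exact LocallyOfFiniteType.isLocallyNoetherian (Y := Spec (CommRingCat.of k)) At.hom
  have hm := isMonHom_lam hD (mk M hM.1)
  obtain ⟨hs, hker⟩ := isIsogenyOver_lam hD hM
  have hKf : IsFinite K.hom := hker K kι hK
  have hp := K516.HomFin.isProper_left (lam φ (mk M hM.1))
  have hf : IsFinite (lam φ (mk M hM.1)).left := K732.KLPull.isFinite_of_ker _ hK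
  have hfl : Flat (lam φ (mk M hM.1)).left := K999.AVFlat.flat_left k _ hs
  have l1 : LocallyOfFinitePresentation (lam φ (mk M hM.1)).left :=
    LocallyOfFinitePresentation.iff_locallyOfFiniteType.2 inferInstance
  have c1 : IsIntegral At.left := K524.PicZeroVan.isIntegral_left (A := At)
  have c2 : IsIntegral A.left := K524.PicZeroVan.isIntegral_left (A := A)
  obtain ⟨y₀⟩ : Nonempty At.left := inferInstance
  set d := (lam φ (mk M hM.1)).left.finrank y₀ with hd
  have hdc : ∀ y, (lam φ (mk M hM.1)).left.finrank y = d := fun y => K732.DegT.finrank_const _ _ _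
  have hdpos : 0 < d := (Scheme.Hom.one_le_finrank_iff_surjective (f := (lam φ (mk M hM.1)).left)).2 hs y₀
  obtain ⟨ξ, h1, h2, h3⟩ := exists_poinc hD (K732.AV.hF A)
  obtain ⟨M', hM', hc'⟩ := exists_mk (mk M hM.1)⁻¹
  obtain ⟨R, hR, e⟩ := exists_R hD h1 h2 h3 hM.1 hM' hc'.symm
  let _ : A.left.Over (Spec (CommRingCat.of k)) := ⟨A.hom⟩
  have hpo : IsProper (A.left ↘ Spec (CommRingCat.of k)) := inferInstanceAs (IsProper A.hom)
  have hMc : Coh.IsCoh M := VarietyB.DegPhi.isCoh_of_hasBases (CohqB.PullTwist471.hasBases_of_isInvertible hM.1)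
  set v := Module.finrank k (Coh.HH A.left (CohB1.tensorMod (ClSub.idealMod xι.left.ker) M) 0) with hv
  set h := Module.finrank k (Coh.HH A.left M 0) with hh
  have hfin : Module.Finite k (Coh.HH A.left M 0) := S0002.result k A.left M hMc 0
  -- `v < h`
  have hlt : v < h := by
    have hS := Dix.Cast1.restrictSeq_shortExact xι.left hM.1
    have hmono : Mono (Dix.Cast1.restrictSeq xι.left M).f := hS.mono_f
    let a : CohB1.tensorMod (ClSub.idealMod xι.left.ker) M ⟶ M := (Dix.Cast1.restrictSeq xι.left M).f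
    have ha : a ≫ (Scheme.Modules.pullbackPushforwardAdjunction xι.left).unit.app M = 0 :=
      (Dix.Cast1.restrictSeq xι.left M).zero
    have hma : Mono a := hmono
    refine K999.SecLt.finrank_lt k a σ fun g hg => hσ ?_
    have h5 : (a ≫ (Scheme.Modules.pullbackPushforwardAdjunction xι.left).unit.app M).app ⊤ g = 0 := by
      rw [ha]
      rfl
    rw [← hg]
    exact h5
  obtain ⟨F, hF, ⟨eF⟩⟩ := K999.FieldCore.exists_F (lam φ (mk M hM.1)) kι hK xι t ht hM.1 hM' hR e v rfl
  have q1 := S7859.result k A At (lam φ (mk M hM.1)) d hdc F hF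
  rw [K999.EulerTw.euler_congr k eF, K999.EulerTw.euler_tensor_freeMod k hM'] at q1
  have q2 : Curv2.euler k A.left M = (h : ℤ) := by
    rw [VarietyA.EulerAdd.euler_eq_sum k M 1 fun i hi => hvan i hi]
    simp [hh]
  have q3 := hRR M hM.1 d hf hdc
  -- the inverse
  have hinv : lam φ (mk M' hM') = ι[A] ≫ lam φ (mk M hM.1) := by
    rw [← hc', lam_inv hD, GrpObj.inv_eq_inv, GrpObj.inv_comp, Category.id_comp]
  have hil : (lam φ (mk M' hM')).left = ι[A].left ≫ (lam φ (mk M hM.1)).left := by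
    rw [hinv, Over.comp_left]
  have hiso : IsIso ι[A].left := inferInstanceAs (IsIso ((Over.forget _).map ι[A]))
  have q4 := hRR M' hM' d (by rw [hil]; infer_instance) (fun y => by
    rw [hil, Scheme.Hom.finrank_comp_left_of_isIso]
    exact hdc y)
  have hv0 : v = 0 := by
    refine K999.Num.eq_zero (h := h) (d := d) (e' := Curv2.euler k A.left M')
      (x := @Curv2.euler k _ At.left ⟨At.hom⟩ F) ?_ q4 q1 hdpos hlt
    rw [← q2]
    exact q3
  have hGc : Module.Finite k (Coh.HH A.left (CohB1.tensorMod (ClSub.idealMod xι.left.ker) M) 0) :=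
    S0002.result k A.left _ (Fga.TwistCoh.isCoh_tensor (K999.FieldCore.isCoh_idealMod _) hM.1) 0
  exact Module.finrank_zero_iff.1 hv0

end K999.FieldMain
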