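import Groth.Agent.AbDual.K732.BC

/-!
# Base change of kernels and of stable subschemes
-/

set_option autoImplicit false
universe u

open CategoryTheory CategoryTheory.Limits MonoidalCategory CartesianMonoidalCategory AlgebraicGeometry
open scoped MonObj

namespace K999.KerBC

open K732.BC Groth.Agent

section pts

variable {C : Type*} [Category C] [CartesianMonoidalCategory C] {K A B : C} [GrpObj B]
  {kι : K ⟶ A} {f : A ⟶ B}

theorem comp_eq_one (h : IsPullback kι (toUnit K) f η[B]) {T : C} (w : T ⟶ K) : (w ≫ kι) ≫ f = 1 := by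
  have h1 : kι ≫ f = toUnit K ≫ η[B] := h.w
  rw [Category.assoc, h1, ← Category.assoc]
  exact (congr_arg (· ≫ η[B]) (toUnit_unique (w ≫ toUnit K) (toUnit T)))

theorem exists_lift (h : IsPullback kι (toUnit K) f η[B]) {T : C} (x : T ⟶ A) (w : x ≫ f = 1) :
    ∃ n : T ⟶ K, n ≫ kι = x :=
  ⟨h.lift x (toUnit T) w, h.lift_fst _ _ _⟩

theorem isPullback_of_pts (h1 : ∀ {T : C} (w : T ⟶ K), (w ≫ kι) ≫ f = 1)
    (h2 : ∀ {T : C} (x : T ⟶ A), x ≫ f = 1 → ∃ w : T ⟶ K, w ≫ kι = x)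
    (h3 : ∀ {T : C} (w w' : T ⟶ K), w ≫ kι = w' ≫ kι → w = w') :
    IsPullback kι (toUnit K) f η[B] := by
  have hw : kι ≫ f = toUnit K ≫ η[B] := by
    have := h1 (𝟙 K)
    rw [Category.id_comp] at this
    exact this
  have hs : ∀ s : PullbackCone f η[B], ∃ w : s.pt ⟶ K, w ≫ kι = s.fst := fun s => h2 s.fst (by
    rw [s.condition]
    exact (congr_arg (· ≫ η[B]) (toUnit_unique s.snd (toUnit s.pt))))
  choose l hl using hs
  exact ⟨⟨hw⟩, ⟨PullbackCone.IsLimit.mk hw l hl (fun s => toUnit_unique _ _)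
    (fun s m hm _ => h3 _ _ (hm.trans (hl s).symm))⟩⟩

theorem hom_ext (h : IsPullback kι (toUnit K) f η[B]) {T : C} {w w' : T ⟶ K} (e : w ≫ kι = w' ≫ kι) :
    w = w' := h.hom_ext e (toUnit_unique _ _)

end pts

variable {S S' : Scheme.{u}} (k : S' ⟶ S) {A B K X : Over S} [GrpObj A] [GrpObj B]

omit [GrpObj B] in
theorem up_pow {U : Over S'} (a : dn k U ⟶ A) (m : ℕ) : up (a ^ m) = up a ^ m := by
  induction m with
  | zero => rw [pow_zero, pow_zero, up_one]
  | succ m ih => rw [pow_succ, pow_succ, up_mul, ih]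

omit [GrpObj B] in
theorem map_pow_comp (m : ℕ) (f : A ⟶ B) :
    (Over.pullback k).map ((𝟙 A ^ m) ≫ f) = (𝟙 (Red.bc k A) ^ m) ≫ (Over.pullback k).map f := by
  obtain ⟨a, ha⟩ := exists_up (k := k) (𝟙 (Red.bc k A))
  have h1 : up a ≫ (Over.pullback k).map ((𝟙 A ^ m) ≫ f) = (up a ^ m) ≫ (Over.pullback k).map f := by
    rw [← up_comp, ← Category.assoc, MonObj.comp_pow, Category.comp_id, up_comp, up_pow]
  rw [ha] at h1
  rw [Category.id_comp] at h1
  exact h1

omit [GrpObj A] in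
/-- Base change of a kernel. -/
theorem isPullback_bc {kι : K ⟶ A} {f : A ⟶ B} (h : IsPullback kι (toUnit K) f η[B]) :
    IsPullback ((Over.pullback k).map kι) (toUnit (Red.bc k K)) ((Over.pullback k).map f)
      η[Red.bc k B] := by
  refine isPullback_of_pts ?_ ?_ ?_
  · intro T w
    obtain ⟨w, rfl⟩ := exists_up w
    rw [← up_comp, ← up_comp, comp_eq_one h, up_one]
  · intro T x hx
    obtain ⟨x, rfl⟩ := exists_up x
    rw [← up_comp, ← up_one (k := k) (A := B)] at hx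
    obtain ⟨w, rfl⟩ := exists_lift h x (up_inj hx)
    exact ⟨up w, (up_comp _ _).symm⟩
  · intro T w w' hw
    obtain ⟨w, rfl⟩ := exists_up w
    obtain ⟨w', rfl⟩ := exists_up w'
    rw [← up_comp, ← up_comp] at hw
    rw [hom_ext h (up_inj hw)]

omit [GrpObj B] in
/-- Base change of a stable subscheme. -/
theorem exists_t {kι : K ⟶ A} {xι : X ⟶ A} (t : K ⊗ X ⟶ X) (ht : t ≫ xι = (kι ⊗ₘ xι) ≫ μ[A]) :
    ∃ t' : Red.bc k K ⊗ Red.bc k X ⟶ Red.bc k X, t' ≫ (Over.pullback k).map xι =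
      ((Over.pullback k).map kι ⊗ₘ (Over.pullback k).map xι) ≫ μ[Red.bc k A] := by
  obtain ⟨p, hp⟩ := exists_up (k := k) (fst (Red.bc k K) (Red.bc k X))
  obtain ⟨q, hq⟩ := exists_up (k := k) (snd (Red.bc k K) (Red.bc k X))
  refine ⟨up (lift p q ≫ t), ?_⟩
  have h1 : (lift p q ≫ t) ≫ xι = (p ≫ kι) * (q ≫ xι) := by
    rw [Category.assoc, ht, lift_map_assoc, Hom.mul_def]
  have h2 : ((Over.pullback k).map kι ⊗ₘ (Over.pullback k).map xι) =
      lift (fst (Red.bc k K) (Red.bc k X) ≫ (Over.pullback k).map kι)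
        (snd (Red.bc k K) (Red.bc k X) ≫ (Over.pullback k).map xι) := by
    rw [← lift_map, lift_fst_snd, Category.id_comp]
  rw [← up_comp, h1, up_mul, up_comp, up_comp, hp, hq, Hom.mul_def, h2]

end K999.KerBC
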