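import Groth.Agent.AbSch.K451.BoxPush
import Groth.Agent.CohqB.PullTwist471
import Groth.Agent.Pic13.H945.IdealPull
import Groth.Agent.AlgSp.K597.FlatKer
import Groth.Agent.Ega2.TensGen

/-!
# A direct image descends along a flat morphism

`P → A`, `P → Q` two flat morphisms, `R` invertible on `Q` whose pull back to `P` is
`m^* M ⊗ p₂^* M'`, and closed subschemes `X ⊆ A`, `D ⊆ Q` with the same preimage in `P`: the direct
image of `I_D ⊗ R` pulls back to `M' ⊗ a^* a_* (I_X ⊗ M)`.
-/

set_option autoImplicit false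
universe u

open CategoryTheory Limits AlgebraicGeometry Opposite

namespace K999.PushDesc

open Groth.Agent Groth.Agent.Ega2 Groth.Agent.CohqB.PullTwist471

/-- The ideal module of a closed subscheme and flat pull back. -/
theorem nonempty_pull_ideal {A A' C X : Scheme.{u}} {i : X ⟶ A} {j : C ⟶ A'} {g : A' ⟶ A} {g' : C ⟶ X}
    (h : IsPullback g' j i g) [IsClosedImmersion i] [Flat g] :
    Nonempty ((Scheme.Modules.pullback g).obj (ClSub.idealMod i.ker) ≅ ClSub.idealMod j.ker) := by
  have h1 : j.ker = i.ker.comap g := K597.FlatKer.ker_of_isPullback_flat h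
  rw [h1]
  have := Pic13.H945.IdealPull.isIso_theta_of_flat g i.ker
  exact ⟨asIso (Pic13.H945.IdealPull.theta g i.ker)⟩

variable {A At P Q S X C D : Scheme.{u}} {aS : A ⟶ S} {m p2 : P ⟶ A} {lam : A ⟶ At} {F : P ⟶ Q}
  {q2 : Q ⟶ At} {i : X ⟶ A} {d : D ⟶ Q} {c : C ⟶ P} {gX : C ⟶ X} {gD : C ⟶ D}

theorem nonempty_pull (h1 : IsPullback gX c i m) (h2 : IsPullback gD c d F)
    [IsClosedImmersion i] [IsClosedImmersion d] [Flat m] [Flat F]
    {M M' : A.Modules} (hM : PicF.IsInvertible M) {R : Q.Modules} (hR : PicF.IsInvertible R)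
    (e : (Scheme.Modules.pullback F).obj R ≅
      CohB1.tensorMod ((Scheme.Modules.pullback m).obj M) ((Scheme.Modules.pullback p2).obj M')) :
    Nonempty ((Scheme.Modules.pullback F).obj (CohB1.tensorMod (ClSub.idealMod d.ker) R) ≅
      CohB1.tensorMod ((Scheme.Modules.pullback p2).obj M')
        ((Scheme.Modules.pullback m).obj (CohB1.tensorMod (ClSub.idealMod i.ker) M))) := by
  obtain ⟨e1⟩ := nonempty_pull_ideal h1
  obtain ⟨e2⟩ := nonempty_pull_ideal h2
  refine ⟨pullTensorIsoRight F (hasBases_of_isInvertible hR) _ ≪≫ Tens.mapTIso (e2 ≪≫ e1.symm) e ≪≫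
    (Tens.assoc _ _ _).symm ≪≫ Tens.swap _ _ ≪≫ Tens.mapTIso (Iso.refl _)
      (pullTensorIsoRight m (hasBases_of_isInvertible hM) _).symm⟩

/-- The main statement. -/
theorem nonempty_main (hm : IsPullback m p2 aS aS) (hF : IsPullback F p2 q2 lam)
    (h1 : IsPullback gX c i m) (h2 : IsPullback gD c d F)
    [IsClosedImmersion i] [IsClosedImmersion d] [Flat aS] [QuasiCompact aS] [QuasiSeparated aS]
    [Flat lam] [QuasiCompact q2] [QuasiSeparated q2]
    {M M' : A.Modules} (hM : PicF.IsInvertible M) (hM' : PicF.IsInvertible M') {R : Q.Modules}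
    (hR : PicF.IsInvertible R)
    (e : (Scheme.Modules.pullback F).obj R ≅
      CohB1.tensorMod ((Scheme.Modules.pullback m).obj M) ((Scheme.Modules.pullback p2).obj M')) :
    Nonempty ((Scheme.Modules.pullback lam).obj ((Scheme.Modules.pushforward q2).obj
        (CohB1.tensorMod (ClSub.idealMod d.ker) R)) ≅
      CohB1.tensorMod M' ((Scheme.Modules.pullback aS).obj ((Scheme.Modules.pushforward aS).obj
        (CohB1.tensorMod (ClSub.idealMod i.ker) M)))) := by
  have f1 : Flat m := MorphismProperty.of_isPullback hm.flip inferInstance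
  have f2 : Flat F := MorphismProperty.of_isPullback hF.flip inferInstance
  have q1 : Coh.IsQCoh (CohB1.tensorMod (ClSub.idealMod d.ker) R) :=
    TensGen.isQCoh_tensor (Groth.Agent.CohqA.IdealMod.isQCoh_idealMod _) hR
  have q2' : Coh.IsQCoh (CohB1.tensorMod (ClSub.idealMod i.ker) M) :=
    TensGen.isQCoh_tensor (Groth.Agent.CohqA.IdealMod.isQCoh_idealMod _) hM
  obtain ⟨e0⟩ := nonempty_pull h1 h2 hM hR e
  obtain ⟨e1⟩ := K451.BoxPush.nonempty_flat_bc (g' := F) (f' := p2) hF
    (CohB1.tensorMod (ClSub.idealMod d.ker) R)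
  obtain ⟨e2⟩ := K451.BoxPush.nonempty_flat_bc (g' := m) (f' := p2) hm
    (CohB1.tensorMod (ClSub.idealMod i.ker) M)
  exact ⟨e1 ≪≫ (Scheme.Modules.pushforward p2).mapIso e0 ≪≫
    (Groth.Agent.VarietyB.ProjForm.projIso p2 (hasBases_of_isInvertible hM') _).symm ≪≫
      Tens.mapTIso (Iso.refl _) e2.symm⟩

end K999.PushDesc
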