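import Groth.Agent.AbSch.K999.FibIn
import Groth.Agent.AgPol.K814.Unnorm
import Groth.Agent.AgPol.K814.RankPush

/-!
# Restriction of the sections of `L` to `K(L²)`
-/

set_option autoImplicit false
set_option linter.unusedSectionVars false
universe u

open CategoryTheory CategoryTheory.Limits MonoidalCategory CartesianMonoidalCategory MonObj GrpObj AlgebraicGeometry
  TopologicalSpace

namespace K999.Two

open Groth.Agent Groth.Agent.Grpsch.PicGrp Groth.Agent.Fdesc.LocGen Groth.Agent.Fga.RigGrp K732.PicZero K732.Prim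
open K732.Dual K732.CubeSec K528.MumZero K814.MumHom K814.GamBase

variable {S : Scheme.{u}} {A At : Over S} [GrpObj A] [GrpObj At]
  [IsProper A.hom] [Smooth A.hom] [GeometricallyIntegral A.hom]
  {φ : ∀ T : Over S, PicF.Cl (PicF.XT A.hom T) → (T ⟶ At)}
  (hD : AbDual.IsDualAV Scheme.fppfPrecoverage A At φ)

include hD in
theorem hom_mul (c d : Pic A.left) : hom φ (c * d) = hom φ c * hom φ d := by
  have h : mumCl A (c * d) = mumCl A c * mumCl A d := by
    refine ext_ev fun W a b ↦ ?_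
    rw [map_mul, ev_mum, ev_mum, ev_mum, map_mul, map_mul, map_mul]
    exact K999.FieldIn.aux _ _ _ _ _ _
  rw [hom, hom, hom, h, cm_mul hD (mum_pz c) (mum_pz d)]

omit [IsProper A.hom] [Smooth A.hom] [GeometricallyIntegral A.hom] in
theorem FA_pow {X : Scheme.{u}} {f : X ⟶ S} [IsProper f] {ℓ : Pic X} (h : FA f ℓ) (n : ℕ) (hn : 1 ≤ n) :
    FA f (ℓ ^ n) := by
  intro Ω _ _ τ X' a p H
  obtain ⟨M, hM, e⟩ := h Ω τ X' a p H
  have hp : IsProper p := MorphismProperty.of_isPullback H inferInstance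
  have hc : CompactSpace X' := QuasiCompact.compactSpace_of_compactSpace p
  have hs : X'.IsSeparated := K999.FieldIn.isSeparated p
  have hM2 : CohB1.IsAmple (CohB1.tensorPow M n) := (S2327.result X' M hM.1 n hn).1 hM
  refine ⟨_, hM2, ?_⟩
  rw [map_pow, ← e]
  exact mk_tensorPow hM.1 n

section ker

variable {C : Over S} (f : A ⟶ C) [GrpObj C]

/-- The fibre of `f` over the unit section. -/
noncomputable def ker : Over S := Over.mk (pullback.fst f.left (η[C] : 𝟙_ (Over S) ⟶ C).left ≫ A.hom)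

noncomputable def kerι : ker f ⟶ A := Over.homMk (pullback.fst f.left (η[C] : 𝟙_ (Over S) ⟶ C).left) rfl

omit [GrpObj A] [IsProper A.hom] [Smooth A.hom] [GeometricallyIntegral A.hom] in
theorem snd_eq : pullback.snd f.left (η[C] : 𝟙_ (Over S) ⟶ C).left = (ker f).hom := by
  have h1 : (η[C] : 𝟙_ (Over S) ⟶ C).left ≫ C.hom = 𝟙 S := Over.w η[C]
  have h2 : pullback.snd f.left (η[C] : 𝟙_ (Over S) ⟶ C).left ≫ (η[C] : 𝟙_ (Over S) ⟶ C).left ≫ C.hom =
      pullback.fst f.left (η[C] : 𝟙_ (Over S) ⟶ C).left ≫ A.hom := by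
    rw [← Category.assoc, ← pullback.condition, Category.assoc, Over.w]
  rw [h1] at h2
  exact (Category.comp_id _).symm.trans h2

omit [GrpObj A] [IsProper A.hom] [Smooth A.hom] [GeometricallyIntegral A.hom] in
theorem isPullback_left : IsPullback (kerι f).left (ker f).hom f.left (η[C] : 𝟙_ (Over S) ⟶ C).left := by
  rw [← snd_eq]
  exact IsPullback.of_hasPullback _ _

omit [GrpObj A] [IsProper A.hom] [Smooth A.hom] [GeometricallyIntegral A.hom] in
theorem isPullback_ker : IsPullback (kerι f) (toUnit (ker f)) f η[C] := by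
  have hw : kerι f ≫ f = 1 := by
    ext1
    have h1 : ((1 : ker f ⟶ C)).left = (ker f).hom ≫ (η[C] : 𝟙_ (Over S) ⟶ C).left := by
      rw [Hom.one_def, Over.comp_left]
      rfl
    rw [h1]
    exact (isPullback_left f).w
  refine K999.KerBC.isPullback_of_pts ?_ ?_ ?_
  · intro T w
    rw [Category.assoc, hw, MonObj.comp_one]
  · intro T x hx
    have h1 : x.left ≫ f.left = T.hom ≫ (η[C] : 𝟙_ (Over S) ⟶ C).left := by
      rw [← Over.comp_left, hx, Hom.one_def, Over.comp_left]
      rfl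
    refine ⟨Over.homMk ((isPullback_left f).lift x.left T.hom h1) ((isPullback_left f).lift_snd _ _ _), ?_⟩
    ext1
    exact (isPullback_left f).lift_fst _ _ _
  · intro T w w' h
    ext1
    refine (isPullback_left f).hom_ext ?_ ?_
    · rw [← Over.comp_left, h, Over.comp_left]
    · rw [Over.w, Over.w]

omit [Smooth A.hom] [GeometricallyIntegral A.hom] in
theorem isClosedImmersion_kerι [IsFinite f.left] : IsClosedImmersion (kerι f).left := by
  have h0 : (η[C] : 𝟙_ (Over S) ⟶ C).left ≫ C.hom = 𝟙 S := Over.w η[C]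
  have h1 : Mono (η[C] : 𝟙_ (Over S) ⟶ C).left := by
    have : Mono ((η[C] : 𝟙_ (Over S) ⟶ C).left ≫ C.hom) := by
      rw [h0]
      exact (inferInstance : Mono (𝟙 S))
    exact mono_of_mono _ C.hom
  have h2 : Mono (kerι f).left :=
    (MorphismProperty.monomorphisms Scheme).of_isPullback (isPullback_left f).flip h1
  have h3 : IsFinite (ker f).hom := MorphismProperty.of_isPullback (isPullback_left f) inferInstance
  have h4 : IsProper (kerι f).left := by
    have : IsProper ((kerι f).left ≫ A.hom) := by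
      rw [Over.w]
      infer_instance
    exact IsProper.of_comp (kerι f).left A.hom
  exact (IsClosedImmersion.iff_isProper_and_mono _).2 ⟨h4, h2⟩

omit [IsProper A.hom] [Smooth A.hom] [GeometricallyIntegral A.hom] in
theorem exists_t [IsMonHom f] : ∃ t : ker f ⊗ ker f ⟶ ker f, t ≫ kerι f = (kerι f ⊗ₘ kerι f) ≫ μ[A] := by
  refine K999.KerBC.exists_lift (isPullback_ker f) _ ?_
  have h1 : (kerι f ⊗ₘ kerι f) ≫ μ[A] = (fst (ker f) (ker f) ≫ kerι f) * (snd (ker f) (ker f) ≫ kerι f) := by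
    rw [Hom.mul_def, ← lift_map, lift_fst_snd, Category.id_comp]
  rw [h1, MonObj.mul_comp, K999.KerBC.comp_eq_one (isPullback_ker f),
    K999.KerBC.comp_eq_one (isPullback_ker f), _root_.mul_one]

end ker

variable [IsCommMonObj A]

include hD in
/-- **The theorem.** -/
theorem main [IsLocallyNoetherian S] {L : A.left.Modules} (hL : PicF.IsInvertible L)
    (hη : pull (η[A] : 𝟙_ (Over S) ⟶ A).left (mk L hL) = 1)
    (hamp : RelAmple.IsRelAmple A.hom L) [GeometricallyConnected A.hom] :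
    Mono ((Coh.push A.hom).map ((Scheme.Modules.pullbackPushforwardAdjunction
        (kerι ((𝟙 A ^ (2 : ℕ)) ≫ hom φ (mk L hL))).left).unit.app L)) ∧
      FlatMod.IsFinLocFree (cokernel ((Coh.push A.hom).map ((Scheme.Modules.pullbackPushforwardAdjunction
        (kerι ((𝟙 A ^ (2 : ℕ)) ≫ hom φ (mk L hL))).left).unit.app L))) := by
  have hm := isMonHom_hom hD hη
  have hFA := FA_pow (K814.RankPush.FA_of_isRelAmple A.hom hL hamp) 2 (by norm_num)
  have h2 : (𝟙 A ^ (2 : ℕ)) ≫ hom φ (mk L hL) = hom φ (mk L hL ^ 2) := by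
    rw [MonObj.pow_comp, Category.id_comp, pow_two, pow_two, hom_mul hD]
  obtain ⟨M, hM, e⟩ := exists_mk (mk L hL ^ 2)
  rw [e] at hFA h2
  obtain ⟨g1, g2, g3, g4, -⟩ := K814.HomDeg.main hD hM hFA
  have hη2 : pull (η[A] : 𝟙_ (Over S) ⟶ A).left (mk M hM) = 1 := by
    rw [← e, map_pow, hη, one_pow]
  have hm2 : IsMonHom (hom φ (mk M hM)) := isMonHom_hom hD hη2
  rw [← h2] at g1 g2 g4 hm2
  obtain ⟨t, ht⟩ := exists_t ((𝟙 A ^ (2 : ℕ)) ≫ hom φ (mk L hL))
  have c1 := isClosedImmersion_kerι ((𝟙 A ^ (2 : ℕ)) ≫ hom φ (mk L hL))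
  have sq := isPullback_left ((𝟙 A ^ (2 : ℕ)) ≫ hom φ (mk L hL))
  have c2 : IsFinite (ker ((𝟙 A ^ (2 : ℕ)) ≫ hom φ (mk L hL))).hom :=
    MorphismProperty.of_isPullback sq inferInstance
  have c3 : Flat (ker ((𝟙 A ^ (2 : ℕ)) ≫ hom φ (mk L hL))).hom :=
    MorphismProperty.of_isPullback sq inferInstance
  have c4 : Surjective (ker ((𝟙 A ^ (2 : ℕ)) ≫ hom φ (mk L hL))).hom :=
    MorphismProperty.of_isPullback sq ⟨g4⟩
  exact K999.FibIn.main hD hL hamp 2 (Or.inl le_rfl) (kerι _) (isPullback_ker _) (kerι _) t ht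

end K999.Two
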